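import Cfsg.Agent.Lib.ZD.H1
import Cfsg.Agent.Lib.SF.GStr2
import Cfsg.Agent.Lib.SCl.Perf

/-! Strongly closed 2-subgroups of rank one, and with a unique fixed point. -/

set_option autoImplicit false
set_option linter.unusedSectionVars false

namespace Cfsg.Lib.SCl
open Subgroup Cfsg.Lib.Core Cfsg.Lib.BG1 Cfsg.Lib.Invol Cfsg.Lib.Layer Cfsg.Lib.Gold
open Cfsg.Lib.Amalg hiding le_cent_symm op_top
open Cfsg.Lib.GW hiding Ctx
open scoped Cfsg.Lib.Wal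
open QuotientGroup (mk' mk'_surjective ker_mk')
open Cfsg.Lib.BS (RO R2 Q0g Wg Kg Dg Vg C3 Q0g_le mem_Q0g_of Wg_le Kg_le)

universe u

variable {G : Type u} [Group G] [Finite G] {C : Set G} {S H K Q T X : Subgroup G} {t x y z : G}

theorem SC.of_map (c : SC C) {P : Type*} [Group P] [Finite P] {f : G →* P} (hf : Odd (Nat.card f.ker)) (hx : Two x)
    (h : f x ∈ f '' C) : x ∈ C := by
  obtain ⟨y, hy, e⟩ := h
  obtain ⟨U, hU, h⟩ := exists_lift (f := f) (hx.map f).isPGroup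
  obtain ⟨n, n1, n2⟩ := h x hx (mem_zpowers _)
  obtain ⟨m, m1, m2⟩ := h y (c.two y hy) (e ▸ mem_zpowers _)
  refine c.conj' (g := n) (mul_inv_eq_one.1 (eq_one_of_odd_of_mem hU (mul_mem n2 (inv_mem m2)) (odd_of_mem hf ?_)) ▸ c.conj y hy m)
  rw [MonoidHom.mem_ker, map_mul, map_inv, map_ker_conj n1, map_ker_conj m1, e, mul_inv_cancel]

theorem SC.rk1_core (c : SC C) (hO : pPrimeCore 2 G = ⊥) (hg : KK C ⊤ = ⊤) (hT : Syl 2 T ⊤)
    (hu : ∀ s ∈ KK C T, ∀ t ∈ KK C T, orderOf s = 2 → orderOf t = 2 → s = t) : T ≤ KK C T := by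
  have h := c.closed hT.isPGroup
  have hS := hT.isPGroup.to_le h.1
  have h0 : normalClosure (KK C T : Set G) = ⊤ := eq_top_iff.2 (hg.ge.trans (c.le_of_syl hT subset_normalClosure))
  have h1 : ∀ z ∈ KK C T, z * z = 1 → z ∈ center G := fun z hz e => by
    by_cases z1 : z = 1
    · exact z1 ▸ one_mem _
    have z2 := two_of_mul_self e z1
    refine mem_center_iff.2 fun g => mul_inv_eq_iff_eq_mul.1 (mul_inv_eq_one.1 (mem_bot.1 ?_))
    rw [← hO, ← opp_top Nat.prime_two]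
    exact zstar_amb hT (h.1 hz) (fun g _ e => hu _ (h.2 z hz g e) z hz ((orderOf_conj g z).trans z2) z2) (mem_top g)
  rcases Block.isCyclic_or_quatData' hS hu with e | ⟨a, x, n, e⟩
  · obtain ⟨-, -, a3, a4, a5, -⟩ := gstr hO c (fun U hU x hx y hy x1 y1 => by
      obtain ⟨g, -, k⟩ := hT.exists_conj_le hU le_top
      simpa [mul_assoc] using commute_conj g⁻¹ (PGrp.comm_of_mem (PGrp.isMulCommutative_of_isCyclic e)
        (mem_KK (c.conj x hx g) (k (conj_mem_cj g x1))) (mem_KK (c.conj y hy g) (k (conj_mem_cj g y1))))) hg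
    refine fun t ht => mem_KK (a3 t (hg.ge.trans (KK_le_iff.2 fun x hx _ => ?_) (mem_top t))) ht
    obtain ⟨a, ha, w, hw, rfl⟩ := a5 x hx
    have w1 : Two w := ⟨1, by simpa [sq] using hw⟩
    obtain ⟨g, k⟩ := Wal.exists_conj_mem hT w1
    have w2 : w ∈ center G := by
      simpa [mul_assoc] using (inferInstance : (center G).Normal).conj_mem _ (h1 _ (mem_KK (c.conj w (a4 w hw) g) k)
        (by rw [conj_mul, hw]; simp)) g⁻¹
    haveI := PGrp.normal_of_le_center (zpowers_le.2 w2)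
    exact mul_mem ha (le_pCore w1.isPGroup (mem_zpowers w))
  have hT' := syl_iff_sylowIn.1 hT
  have h2 : IsStronglyClosed (T ⊓ 𝐂(KK C T)) T := ⟨inf_le_left, fun y hy g k => ⟨k, (SCQ.fus hT' h hy.1 k).2 hu hy.2⟩⟩
  have h3 := s2767 SCl.gld hT.toSylowTop h h2 fun a ha b hb => hb.2 a ha
  haveI := PGrp.normal_of_le_center (inf_le_right : KK C T ⊓ center G ≤ _)
  rw [hO, sup_bot_eq, h0] at h3
  replace h3 := h3.trans (normalClosure_le_normal (N := KK C T ⊓ center G) fun y hy => ⟨hy.1, h1 y hy.1 (by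
    obtain ⟨k, rfl⟩ := (e.inf_centralizer (j := 1) fun k => by
      have := Int.le_of_dvd one_pos k
      have := Nat.one_lt_two_pow (n := n + 1) (by omega)
      omega).le ⟨hy.1, mem_centralizer_singleton_iff.2 (hy.2.2 _ (e.zpow_mem 1)).symm⟩
    have := e.conj_zpow k
    rwa [hy.2.2 x e.x_mem, mul_inv_cancel_right, eq_inv_iff_mul_eq_one] at this)⟩)
  refine SCQ.le_of_fus hT' h h0 le_rfl (c.nK T) fun y hy k hk => ⟨1, one_mem _, ?_⟩
  obtain ⟨s, hs, d, hd, rfl⟩ := (Coprime.mem_sup_iff_of_le_normalizer (centralizer_le_normalizer _)).1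
    (SCQ.le_sup_cent hT' h h0 e hy)
  have d1 : d ∈ T := (mul_mem_cancel_left (h.1 hs)).1 hy
  have d2 := (mem_inf.1 (h3 (commutator_mem_commutator (mem_top k) (subset_normalClosure (mem_inf.2 ⟨d1, hd⟩))))).1
  have s1 := h.2 s hs k (by
    convert mul_mem (mul_mem hk (inv_mem d1)) (inv_mem (h.1 d2)) using 1
    rw [commutatorElement_def]; group)
  convert conj_mem_norm (c.nK T (inv_mem d1)) (mul_mem (mul_mem (inv_mem hs) s1) d2) using 1
  rw [commutatorElement_def]; group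

/-- a strongly closed subgroup with a unique involution is a Sylow subgroup of its normal closure -/
theorem SC.rk1 (c : SC C) (hg : KK C ⊤ = ⊤) (hT : Syl 2 T ⊤)
    (hu : ∀ s ∈ KK C T, ∀ t ∈ KK C T, orderOf s = 2 → orderOf t = 2 → s = t) (hx : Two x) : x ∈ C := by
  have s := mk'_surjective (pPrimeCore 2 G)
  have hk : Odd (Nat.card (mk' (pPrimeCore 2 G)).ker) :=
    (ker_mk' (pPrimeCore 2 G)).symm ▸ Nat.coprime_two_right.1 (coprime_card_pPrimeCore 2 G)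
  obtain ⟨g, k⟩ := Wal.exists_conj_mem hT hx
  refine c.conj' (c.of_map hk (hx.conj g) ((c.map s).mem_of_KK (hT.map_top s).isPGroup ((c.map s).rk1_core
    pPrimeCore_quotient_pPrimeCore (KK_map_top s hg) (hT.map_top s) (fun a ha b hb a2 b2 => ?_) (mem_map_of_mem _ k))))
  have h3 : ∀ s ∈ KK C T, orderOf (mk' (pPrimeCore 2 G) s) = 2 → orderOf s = 2 := fun s hs e =>
    two_of_mul_self (eq_one_of_odd_of_mem hT.isPGroup (KK_le _ _ (mul_mem hs hs)) (odd_of_mem hk (by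
      rw [MonoidHom.mem_ker, map_mul, mul_self_of_two e]))) fun e' => ne_one_of_two e (e' ▸ map_one _)
  obtain ⟨a, a1, rfl⟩ := c.KK_map_le _ hT ha
  obtain ⟨b, b1, rfl⟩ := c.KK_map_le _ hT hb
  rw [hu a a1 b b1 (h3 a a1 a2) (h3 b b1 b2)]

theorem ro_irr [IsSimpleGroup G] (h : RO H Q t) (h2 : R2 (⊤ : Subgroup G)) (hX : X ≤ Q) (x0 : Q0g Q ≤ X) (hx : H ≤ 𝐍(X)) :
    X ≤ Q0g Q ∨ Q ≤ X := or_iff_not_imp_left.2 fun e => by
  have h8 : 1 ≤ Nat.card (Q0g Q) := Nat.card_pos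
  have hK : Kg H t ≤ 𝐍(X) := fun k hk => hx (Kg_le H t hk).1
  have hq : ∀ x ∈ X, x * x ∈ Q0g Q := fun x hx => h.sq_mem h2 (hX hx)
  have h9 := h.card_of_sq h2 hX ((h.good' h2).two.to_le hX) (x0.lt_of_ne fun e' => e e'.ge) hK hq
  refine (eq_of_le_of_card_ge hX ?_).ge
  rcases h.tri3 h2 with ⟨-, e' | ⟨-, h6, -⟩⟩ | ⟨s, c, -, hW⟩
  · exact absurd (hX.trans e'.ge) e
  · rcases h9 with e | e
    · rw [e, h6]
    · rw [e, h6]; exact Nat.pow_le_pow_right h8 (by norm_num)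
  rcases h9 with h6 | h6
  · obtain ⟨w, hw, hp⟩ := Coprime.exists_mem_orderOf_prime hW
    obtain ⟨y, hy, h7, h8⟩ := h.exists_root h2 c.se (h.card_root_two h2 c.se hX x0 hK hq h6) (h.W_le_V hw) hp (hx hw.1.1)
    exact absurd (c.fpf w hw y (hX hy) (fun e => ne_one_of_two c.se.two (h7.symm.trans (h.sq_Q0 h2 e))) h8) fun e => by
      rw [e, orderOf_one] at hp; exact Nat.not_prime_one hp
  · rw [h6, c.card]

/-- the nonidentity elements of `C` fix a unique coset of `H` -/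
structure UF (C : Set G) (H : Subgroup G) : Prop where
  sc : SC C
  ne : H ≠ ⊤
  ex : ∃ z ∈ C, z ∈ H ∧ orderOf z = 2
  uf : ∀ x ∈ C, x ≠ 1 → x ∈ H → ∀ g, g * x * g⁻¹ ∈ H → g ∈ H

/-- the elements of `C` of order at most two -/
def I0 (C : Set G) : Set G := {x | x ∈ C ∧ x * x = 1}

namespace UF
variable (h : UF C H)
include h

theorem cent (hx : x ∈ C) (x1 : x ≠ 1) (x2 : x ∈ H) : 𝐂[x] ≤ H := fun g hg =>
  h.uf x hx x1 x2 g (by rwa [mem_centralizer_singleton_iff.1 hg, mul_inv_cancel_right])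

theorem syl : ∃ T, Syl 2 T ⊤ ∧ T ≤ H ∧ 𝐍(T) ≤ H := by
  obtain ⟨z, z0, z1, z2⟩ := h.ex
  obtain ⟨T, hT, k⟩ := exists_syl_ge (Two.of_two z2).isPGroup (zpowers_le.2 z1)
  have : 𝐍(T) ≤ H := fun g hg => h.uf z z0 (ne_one_of_two z2) z1 g (hT.le (conj_mem_norm hg (k (mem_zpowers z))))
  exact ⟨T, hT.of_normalizer_le le_top (inf_le_right.trans this), hT.le, this⟩

theorem cm : CM (I0 C) (I0 C) := fun U hU x hx y hy x1 y1 => by
  obtain ⟨T, hT, h1, h2⟩ := h.syl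
  obtain ⟨g, -, k⟩ := hT.exists_conj_le hU le_top
  by_cases e : x = 1
  · exact e ▸ Commute.one_left y
  simpa [mul_assoc] using commute_conj g⁻¹ (h.sc.zd_comm hT h.ne h2 (fun t t0 t1 t2 => h.cent t0 (ne_one_of_two t2) (h1 t1))
    (h.sc.conj x hx.1 g) (k (conj_mem_cj g x1)) ((orderOf_conj g x).trans (two_of_mul_self hx.2 e)) (h.sc.conj y hy.1 g)
    (k (conj_mem_cj g y1)) (by rw [conj_mul, hy.2]; simp))

theorem sc0 : SC (I0 C) :=
  ⟨⟨h.sc.one, one_mul 1⟩, fun x hx => h.sc.two x hx.1, fun x hx g => ⟨h.sc.conj x hx.1 g, by rw [conj_mul, hx.2]; simp⟩,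
    fun T hT x hx y hy a b => ⟨h.sc.mul T hT x hx.1 y hy.1 a b, by
      rw [(h.cm T hT x hx y hy a b).symm.mul_mul_mul_comm, hx.2, hy.2, one_mul]⟩⟩

theorem sub [hK : K.Normal] (hz : z ∈ C) (z1 : z ∈ H) (z2 : orderOf z = 2) (z3 : z ∈ K) :
    UF (K.subtype ⁻¹' C) (H.subgroupOf K) :=
  ⟨h.sc.comap K.subtype_injective, fun e => h.ne (eq_top_iff.2 fun g _ => h.uf z hz (ne_one_of_two z2) z1 g
    (subgroupOf_eq_top.1 e (hK.conj_mem z z3 g))), ⟨⟨z, z3⟩, hz, z1, by simpa using z2⟩,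
    fun x hx x1 x2 g => h.uf x hx (fun e => x1 (Subtype.ext e)) x2 g⟩

theorem se (hI : ∀ x, x * x = 1 → x ∈ C) : IsStronglyEmbedded H :=
  let ⟨_, _, z1, z2⟩ := h.ex
  stronglyEmbedded_iff.2 ⟨h.ne, even_card_of_two_mem z2 z1, fun t g ht => fun k =>
    h.uf t (hI t (mul_self_of_two ht)) (ne_one_of_two ht) k g⟩

theorem ro (hO : pPrimeCore 2 G = ⊥) (hg : KK (I0 C) ⊤ = ⊤) : (∀ x, x * x = 1 → x ∈ C) ∧ IsSimpleGroup G ∧
    R2 (⊤ : Subgroup G) ∧ ∃ Q t, RO H Q t ∧ ((∀ x ∈ Q, x ∈ C → x ∈ Q0g Q) ∨ ∀ x ∈ Q, x ∈ C) := by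
  have hI := fun x hx => ((gstr hO h.sc0 h.cm hg).2.2.2.1 x hx).1
  obtain ⟨Q, t, r, r2, hf, q⟩ := ro_of_se (h.se hI) hO
  haveI := r.simple r2 hf (by
    rw [← r.closure_eq r2, eq_top_iff, ← hg]
    refine KK_le_iff.2 fun x hx _ => ?_
    by_cases e : x = 1
    · exact e ▸ one_mem _
    obtain ⟨g, rfl⟩ := isConj_iff.1 (se_isConj r.se r.two_t (two_of_mul_self hx.2 e))
    exact normalClosure_normal.conj_mem t (subset_normalClosure (Set.mem_singleton t)) g)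
  exact ⟨hI, ‹_›, r2, Q, t, r, (ro_irr r r2 (KK_le C Q) (le_KK (fun v hv => hI v (r.sq_Q0 r2 hv)) (Q0g_le Q))
    (h.sc.norm_KK r.norm)).imp (fun e x hx k => e (mem_KK k hx)) fun e x hx => h.sc.mem_of_KK q.two (e hx)⟩

theorem gen0 (hO : pPrimeCore 2 G = ⊥) (hg : KK C ⊤ = ⊤) : KK (I0 C) ⊤ = ⊤ := by
  haveI := h.sc0.normal
  generalize hK : KK (I0 C) ⊤ = K at *
  obtain ⟨z, z0, z1, z2⟩ := h.ex
  obtain ⟨hI, _, r2, Q, t, r, hd⟩ := (h.sub (K := K) z0 z1 z2 (hK ▸ mem_KK ⟨z0, mul_self_of_two z2⟩ trivial)).ro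
    (pPrimeCore_eq_bot_of_normal hO K) (map_injective K.subtype_injective (by
      rw [show I0 (K.subtype ⁻¹' C) = K.subtype ⁻¹' I0 C from Set.ext fun x => and_congr_right fun _ => Subtype.ext_iff, KK_sub,
        ← MonoidHom.range_eq_map, range_subtype]
      exact le_antisymm (KK_le _ _) (hK.ge.trans (KK_le_iff.2 fun x hx _ => mem_KK hx (hK ▸ mem_KK hx trivial)))))
  have q := ro_syl' r r2
  obtain ⟨T, hT, k⟩ := exists_syl_ge (q.isPGroup.map K.subtype) le_top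
  have hQ : ∀ x : K, x ∈ Q ↔ (x : G) ∈ T := fun x => ⟨fun e => k (mem_map_of_mem _ e), fun e =>
    (q.eq_of_le (T.subgroupOf K) (fun y hy => k (mem_map_of_mem _ hy)) le_top (hT.isPGroup.comap_subtype)).le e⟩
  obtain ⟨v, v1, v2⟩ := r.exists_two
  have hH : T ≤ H := fun s hs => h.uf v (hI v (mul_self_of_two v2)) (fun e => ne_one_of_two v2 (Subtype.ext e)) (r.le v1) s
    (r.le ((hQ ⟨_, Normal.conj_mem ‹_› _ v.2 s⟩).2 (mul_mem (mul_mem hs ((hQ v).1 v1)) (inv_mem hs))))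
  refine eq_top_iff.2 (hg.ge.trans (h.sc.le_of_syl hT fun s hs => ?_))
  have s0 := h.sc.mem_of_KK hT.isPGroup hs
  have s1 := KK_le _ _ hs
  obtain ⟨y, hy, x, hx, e⟩ := r.exists_QtH (g := ⟨_, Normal.conj_mem ‹_› _ t.2 s⟩) fun e => r.tH (mem_subgroupOf.2 (by
    simpa [mul_assoc] using mul_mem (mul_mem (inv_mem (hH s1)) (mem_subgroupOf.1 e)) (hH s1)))
  replace e : s * t * s⁻¹ = y * t * x := congrArg Subtype.val e
  have y1 := (hQ y).1 hy
  have d1 : (t : G)⁻¹ * (y⁻¹ * s) * (t : G)⁻¹⁻¹ ∈ H := by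
    rw [show (t : G)⁻¹ * (y⁻¹ * s) * (t : G)⁻¹⁻¹ = (t : G)⁻¹ * y⁻¹ * (s * t * s⁻¹) * s by group, e]
    simpa [mul_assoc] using mul_mem (mem_subgroupOf.1 hx) (hH s1)
  suffices (y : G) ∈ C by
    by_contra s2
    exact r.tH (inv_mem_iff.1 (h.uf _ (h.sc.mul T hT.isPGroup _ (h.sc.inv this) s s0 (inv_mem y1) s1)
      (fun e => s2 (inv_mul_eq_one.1 e ▸ y.2)) (hH (mul_mem (inv_mem y1) s1)) _ d1))
  by_cases hQ0 : ∀ x ∈ Q, x ∈ K.subtype ⁻¹' C
  · exact hQ0 y hy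
  replace hd := hd.resolve_right hQ0
  push Not at hQ0
  obtain ⟨u, u1, u2⟩ := hQ0
  have u3 := r.two_V r2 (r.sq_mem r2 u1) fun e => u2 (hI u e)
  have h1 : s ∈ 𝐍(K) := le_normalizer_of_normal (mem_top s)
  have a2 : ∀ x ∈ Q, K.normalizerMonoidHom ⟨s, h1⟩ x * x⁻¹ ∈ Q0g Q := fun x hx => by
    have : (s * x * s⁻¹ * x⁻¹ : G) ∈ KK C T := by
      simpa [mul_assoc] using mul_mem hs (conj_mem_norm (h.sc.nK T ((hQ x).1 hx)) (inv_mem hs))
    exact hd _ ((hQ _).2 (KK_le _ _ this)) (h.sc.mem_of_KK hT.isPGroup this)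
  have a1 : ∀ v ∈ Q0g Q, K.normalizerMonoidHom ⟨s, h1⟩ v = v := fun v hv => by
    by_cases e : v = 1
    · rw [e, map_one]
    obtain ⟨k, hk, rfl⟩ := r.exists_K' u3 (r.le (mul_mem u1 u1)) (r.two_V r2 hv e) (r.le (Q0g_le Q hv))
    have a := r.conj_Q (Kg_le _ _ hk).1 u1
    have b := a2 _ a
    rw [← conj_mul, map_mul, ← inv_mul_cancel_right (K.normalizerMonoidHom ⟨s, h1⟩ _) (k * u * k⁻¹),
      (r.commute_Q0 r2 b a).symm.mul_mul_mul_comm, r.sq_Q0 r2 b, one_mul]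
  obtain ⟨w, hw, w1⟩ := (Kg _ t).bot_or_exists_ne_one.resolve_left (r.K_ne_bot r2)
  have w2 := Kg_le _ _ hw
  have a3 := r.aut_HQ r2 a1 a2 w2.1
  have a4 : (w * (K.normalizerMonoidHom ⟨s, h1⟩ w)⁻¹ : K) = (w * s * (w : G)⁻¹ * s⁻¹ : G) := by
    change (w * (s * w * s⁻¹)⁻¹ : G) = _; group
  have a5 : (w * s * (w : G)⁻¹ : G) ∈ T := (mul_mem_cancel_right (inv_mem s1)).1 (a4 ▸ (hQ _).1 a3)
  generalize (w * (K.normalizerMonoidHom ⟨s, h1⟩ w)⁻¹ : K) = p at a3 a4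
  have a6 := hd _ a3 (show (p : G) ∈ C from a4.symm ▸ h.sc.mul T hT.isPGroup _ (h.sc.conj s s0 w) _ (h.sc.inv s0) a5 (inv_mem s1))
  have a7 := r.eq_one_of_tyt (mul_mem (mul_mem (r.conj_Q w2.1 (inv_mem hy)) a3) hy) (mem_subgroupOf.2 (by
    have b := mem_subgroupOf.1 (r.mem_D.1 w2).2
    have t1 : (t : G)⁻¹ = t := congrArg Subtype.val r.t_inv
    convert mul_mem (mul_mem (mul_mem b d1) (inv_mem b)) (inv_mem d1) using 1
    simp only [coe_mul, coe_inv, a4]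
    nth_rw 1 [← t1]; nth_rw 3 [← t1]; nth_rw 7 [← t1]
    group))
  refine hI y (by_contra fun e => w1 (by_contra fun w1 => e (r.K_fpf w2.1 (r.inv_K r2 hw) w1 (mul_mem hy hy) ?_)))
  rw [Commute, SemiconjBy, ← mul_inv_eq_iff_eq_mul, ← conj_mul, show w * y * w⁻¹ = p * y by
    rw [← mul_one (w * y * w⁻¹), ← a7]; group, (r.commute_Q0 r2 a6 hy).symm.mul_mul_mul_comm, r.sq_Q0 r2 a6, one_mul]

theorem main (hg : KK C ⊤ = ⊤) : (∀ x, x * x = 1 → x ∈ C) ∧ ((∀ x ∈ C, x * x = 1) ∨ ∀ x, Two x → x ∈ C) := by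
  have hk : Odd (Nat.card (pPrimeCore 2 G)) := Nat.coprime_two_right.1 (coprime_card_pPrimeCore 2 G)
  have tw : ∀ x : G, x * x = 1 → Two x := fun x hx => ⟨1, by simpa [sq] using hx⟩
  by_cases hO : pPrimeCore 2 G ≤ H
  swap
  · obtain ⟨T, hT, h1, -⟩ := h.syl
    have := fun x => h.sc.rk1 (x := x) hg hT fun x hx y hy x2 y2 => by_contra fun e => hO (by
      have c := h.cm T hT.isPGroup x ⟨h.sc.mem_of_KK hT.isPGroup hx, mul_self_of_two x2⟩ y
        ⟨h.sc.mem_of_KK hT.isPGroup hy, mul_self_of_two y2⟩ (KK_le _ _ hx) (KK_le _ _ hy)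
      have hV := isKleinFour_closure x2 y2 e c
      haveI : IsMulCommutative (closure ({x, y} : Set G)) := ⟨⟨fun a b => Subtype.ext (klein_commute hV a.2 b.2)⟩⟩
      have hle : closure ({x, y} : Set G) ≤ KK C T := (closure_le _).mpr (by rintro _ (rfl | rfl) <;> assumption)
      exact Coprime.le_of_forall_centralizer_le (A := closure ({x, y} : Set G)) hV.not_isCyclic le_normalizer_of_normal
        (by rw [hV.card_four]; exact (hk.coprime_two_left).pow_left 2) fun a ha a1 => inf_le_right.trans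
          (h.cent (h.sc.mem_of_KK hT.isPGroup (hle ha)) a1 (h1 (KK_le _ _ (hle ha)))))
    exact ⟨fun x hx => this x (tw x hx), Or.inr this⟩
  have s := mk'_surjective (pPrimeCore 2 G)
  have hH : ∀ g, mk' (pPrimeCore 2 G) g ∈ H.map (mk' _) → g ∈ H := fun g hg => by
    rwa [← mem_comap, comap_map_eq, ker_mk', sup_eq_left.2 hO] at hg
  rw [← ker_mk' (pPrimeCore 2 G)] at hk
  have h' : UF (mk' (pPrimeCore 2 G) '' C) (H.map (mk' _)) := ⟨h.sc.map s, fun e => h.ne (eq_top_iff.2 fun g _ => hH g (e.ge trivial)),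
    let ⟨z, z0, z1, z2⟩ := h.ex; ⟨_, ⟨z, z0, rfl⟩, mem_map_of_mem _ z1, two_of_mul_self (by
      rw [← map_mul, mul_self_of_two z2, map_one]) fun e => ne_one_of_two z2 ((Two.of_two z2).eq_one (odd_of_mem hk e))⟩, by
    rintro _ ⟨x, hx, rfl⟩ x1 x2 g k
    obtain ⟨g, rfl⟩ := s g
    exact mem_map_of_mem _ (h.uf x hx (fun e => x1 (e ▸ map_one _)) (hH x x2) g (hH _ (by simpa using k)))⟩
  obtain ⟨hI, _, r2, Q, t, r, hd⟩ := h'.ro pPrimeCore_quotient_pPrimeCore (h'.gen0 pPrimeCore_quotient_pPrimeCore (KK_map_top s hg))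
  refine ⟨fun x hx => h.sc.of_map hk (tw x hx) (hI _ (by rw [← map_mul, hx, map_one])), hd.imp (fun e x hx => ?_) fun e x hx => ?_⟩
  · obtain ⟨g, k⟩ := Wal.exists_conj_mem (ro_syl' r r2) ((h.sc.two x hx).map (mk' _))
    have := r.sq_Q0 r2 (e _ k (h'.sc.conj _ ⟨x, hx, rfl⟩ g))
    rw [conj_mul, conj_eq_one_iff, ← map_mul] at this
    exact (h.sc.two _ (h.sc.mul_comm' hx hx (Commute.refl x))).eq_one (odd_of_mem hk this)
  · obtain ⟨g, k⟩ := Wal.exists_conj_mem (ro_syl' r r2) (hx.map (mk' _))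
    exact h.sc.of_map hk hx (h'.sc.conj' (e _ k))

end UF

end Cfsg.Lib.SCl
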