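import Cfsg.Agent.Lib.Block.AbFrob
import Cfsg.Agent.Lib.Core.PSolvable
import Cfsg.Agent.Lib.BG1.Defs
import Cfsg.Prelude.Def_TwoFusion
import Cfsg.Agent.Lib.Invol.Classes
import Mathlib.GroupTheory.FixedPointFree

/-! Glauberman's characterization of the Suzuki groups, part 1: the group theory. -/

set_option autoImplicit false
set_option linter.unusedSectionVars false

namespace Cfsg.Lib.GSz

open Subgroup MulAction Cfsg.Lib.Core Cfsg.Lib.BG1 Cfsg.Lib.Transfer Cfsg.Lib.Block Cfsg.Lib.Block2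
open Cfsg.Lib.Invol (mem_cent isConj_conj orderOf_conj orderOf_of_isConj)

variable {G : Type*} [Group G] [Finite G] {p : ℕ} [hp : Fact p.Prime] {P A : Subgroup G} {a b n : G}

theorem pair_abs (hs : IsPSolvable p G) {R : Subgroup G} (hR : SylowIn p R ⊤) {x y x1 y1 : G}
    (hg : closure ({x, y} : Set G) = ⊤) (hx : IsConj x1 x) (hy : IsConj y1 y) (h1 : x1 ∈ R ⊓ 𝐂(R))
    (h2 : y1 ∈ R ⊓ 𝐂(R)) (k : ℤ) : ∃ u, IsPPart p (x * y ^ k) u ∧ IsConj u (x1 * y1 ^ k) := by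
  let π := QuotientGroup.mk' (pPrimeCore p G)
  have hπ : Function.Surjective π := QuotientGroup.mk'_surjective _
  have hR' : SylowIn p (R.map π) ⊤ := map_top_of_surjective π hπ ▸ hR.map π
  have hQ := centralizer_pCore_le_of_isPSolvable hp.out (isPSolvable_quotient hp.out hs (pPrimeCore p G))
    pPrimeCore_quotient_pPrimeCore
  have hQR : pCore p (G ⧸ pPrimeCore p G) ≤ R.map π :=
    hR'.le_of_le_normalizer (isPGroup_pCore _ _) le_top le_normalizer_of_normal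
  have k1 : ∀ z ∈ R ⊓ 𝐂(R), π z ∈ 𝐂(R.map π) := by
    rintro z hz _ ⟨r, hr, rfl⟩
    rw [← map_mul, hz.2 r hr, map_mul]
  have k2 : ∀ z1 ∈ R ⊓ 𝐂(R), ∀ z, IsConj z1 z → π z ∈ pCore p (G ⧸ pPrimeCore p G) := fun z1 h z e => by
    obtain ⟨c, rfl⟩ := isConj_iff.mp e
    simpa using Subgroup.Normal.conj_mem inferInstance _ (hQ (centralizer_le hQR (k1 _ h))) (π c)
  have k3 : R.map π = ⊤ := top_le_iff.mp (le_trans (by
    rw [← map_top_of_surjective π hπ, ← hg, map_le_iff_le_comap, closure_le]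
    rintro _ (rfl | rfl)
    exacts [k2 _ h1 _ hx, k2 _ h2 _ hy]) hQR)
  have k4 : ∀ z1 ∈ R ⊓ 𝐂(R), ∀ z, IsConj (π z1) z → z = π z1 := fun z1 h z e => by
    obtain ⟨c, rfl⟩ := isConj_iff.mp e
    rw [k1 _ h c (k3 ▸ mem_top c), mul_inv_cancel_right]
  obtain ⟨u, hu⟩ := exists_isPPart hp.out (x * y ^ k)
  obtain ⟨i, hi⟩ := hu.orderOf_eq
  obtain ⟨c, -, hc⟩ := hR.exists_cj_le (isPGroup_zpowers_of_orderOf hi) le_top
  have h3 : c * u * c⁻¹ ∈ R := hc (conj_mem_cj.mpr (mem_zpowers u))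
  have h4 : x1 * y1 ^ k ∈ R ⊓ 𝐂(R) := mul_mem h1 (zpow_mem h2 k)
  have h5 : π u = π (x1 * y1 ^ k) := by
    have := (hu.map hp.out π).unique hp.out (isPPart_self hp.out
      (orderOf_eq_pow_of_mem hR'.isPGroup (k3 ▸ mem_top _)))
    rw [this, map_mul, map_mul, map_zpow, map_zpow, k4 _ h1 _ (π.map_isConj hx), k4 _ h2 _ (π.map_isConj hy)]
  refine ⟨u, hu, isConj_iff.mpr ⟨c, ?_⟩⟩
  have h6 : π (c * u * c⁻¹) = π (x1 * y1 ^ k) := k4 _ h4 _ (h5 ▸ π.map_isConj (isConj_conj c u))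
  have h7 := inf_eq_bot_of_isPGroup_of_coprime hp.out hR.isPGroup (coprime_card_pPrimeCore p G)
  exact inv_mul_eq_one.mp (mem_bot.mp (h7 ▸ ⟨R.mul_mem (R.inv_mem h3) h4.1, QuotientGroup.eq.mp h6⟩))

/-- The hypotheses of Glauberman's theorem, with a strongly closed subgroup `A ≤ Ω₁(Z(P))`. -/
structure GS (p : ℕ) (P A : Subgroup G) : Prop where
  syl : SylowIn p P ⊤
  sc : IsStronglyClosed A P
  cen : A ≤ 𝐂(P)
  ex : ∀ a ∈ A, a ^ p = 1
  ne : A ≠ ⊥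
  nil : ∀ x : G, orderOf x = p → PNil p 𝐂[x]
  sol : ∀ x y : G, orderOf x = p → orderOf y = p → IsPSolvable p (closure ({x, y} : Set G))

namespace GS

variable (h : GS p P A)
include h

theorem ord (ha : a ∈ A) (h1 : a ≠ 1) : orderOf a = p := orderOf_eq_prime (h.ex a ha) h1

theorem le_cent (ha : a ∈ A) : P ≤ 𝐂[a] := fun x hx => mem_cent.mpr (h.cen ha x hx)

theorem sylc (ha : a ∈ A) : SylowIn p P 𝐂[a] := h.syl.mono (h.le_cent ha) le_top

theorem comm (ha : a ∈ A) (hb : b ∈ A) : Commute a b := h.cen hb a (h.sc.1 ha)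

theorem norm_le : 𝐍(P) ≤ 𝐍(A) := fun n hn => mem_normalizer_of_cj_le (cj_le_iff.mpr fun x hx =>
  h.sc.2 x hx n (Transfer.conj_mem_of_mem_normalizer hn (h.sc.1 hx)))

theorem fus (ha : a ∈ A) (hb : b ∈ A) (e : IsConj a b) : ∃ n ∈ 𝐍(P), n * a * n⁻¹ = b := by
  obtain ⟨g, rfl⟩ := isConj_iff.mp e
  have h1 : SylowIn p (cj g P) 𝐂[g * a * g⁻¹] := (cj_top g ▸ h.syl.cj g).mono (cj_le_iff.mpr fun x hx =>
    mem_cent.mpr ((mem_cent.mp (h.le_cent ha hx)).map (MulAut.conj g))) le_top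
  obtain ⟨c, hc, e⟩ := h1.exists_cj_eq (h.sylc hb)
  refine ⟨c * g, cj_eq_iff.mp (by rw [cj_mul, e]), ?_⟩
  rw [show c * g * a * (c * g)⁻¹ = c * (g * a * g⁻¹) * c⁻¹ by group, (mem_cent.mp hc).eq, mul_inv_cancel_right]

theorem stab {Q : Subgroup G} (hQ : Q ≤ P) (hc : Q ≤ 𝐂(P)) {y : G} (hy : y ∈ 𝐂(P)) (ho : orderOf y = p) :
    𝐂[y] ⊓ 𝐍(Q) ≤ 𝐂(Q) := fun n hn => by
  have hP : P ≤ 𝐂[y] := fun x hx => mem_cent.mpr (hy x hx)
  obtain ⟨w, hw, u, hu, rfl⟩ := (h.syl.mono hP le_top).exists_resOf_mul hn.1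
  have h1 : u ∈ 𝐂(Q) := fun x hx => (hc hx u hu).symm
  exact mul_mem ((h.nil y ho).mem_centralizer (h.syl.isPGroup.to_le hQ) (hQ.trans hP) hw
    (by simpa using (𝐍(Q)).mul_mem hn.2 (inv_mem (centralizer_le_normalizer _ h1)))) h1

theorem frob (a : G) (ha : a ∈ A) (h1 : a ≠ 1) : 𝐂[a] ⊓ 𝐍(A) ≤ 𝐂(A) := h.stab h.sc.1 h.cen (h.cen ha) (h.ord ha h1)

theorem card_cls (ha : a ∈ A) (h1 : a ≠ 1) : Nat.card {b : G | b ∈ A ∧ IsConj a b} = (𝐂(A)).relIndex 𝐍(A) := by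
  rw [relIndex, ← stabilizer_elt h.frob (y := ⟨a, ha⟩) (by simpa using h1), index_stabilizer, ← Nat.card_coe_set_eq]
  refine Nat.card_congr (Equiv.ofBijective (fun b : orbit 𝐍(A) (⟨a, ha⟩ : A) => (⟨b.1.1, b.1.2, ?_⟩ : {b : G | b ∈ A ∧ IsConj a b}))
    ⟨fun b c e => Subtype.ext (Subtype.ext (by simpa using e)), fun b => ?_⟩).symm
  · obtain ⟨n, hn⟩ := b.2
    exact hn ▸ isConj_conj _ _
  · obtain ⟨n, hn, e⟩ := h.fus ha b.2.1 b.2.2
    exact ⟨⟨_, ⟨n, h.norm_le hn⟩, rfl⟩, Subtype.ext e⟩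

theorem pair {x y : G} (hx : x ∈ A) (hy : y ∈ A) (x1 : x ≠ 1) (y1 : y ≠ 1) (g : G) : ∃ a ∈ A, ∃ b ∈ A, IsConj a x ∧
    IsConj b y ∧ ∀ k : ℤ, ∃ u, IsPPart p (x * (g * y ^ k * g⁻¹)) u ∧ IsConj u (a * b ^ k) := by
  set H := closure ({x, g * y * g⁻¹} : Set G)
  have hs := h.sol _ _ (h.ord hx x1) ((orderOf_conj g y).trans (h.ord hy y1))
  obtain ⟨R, hR⟩ := exists_sylowIn (p := p) H
  obtain ⟨c, -, hc⟩ := h.syl.exists_cj_le hR.isPGroup le_top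
  have key : ∀ z ∈ H, ∀ w ∈ A, IsConj w z → ∃ z1 : H, IsConj (z1 : G) z ∧ (z1 : H) ∈ R.subgroupOf H ⊓ 𝐂(R.subgroupOf H) ∧
      c * z1 * c⁻¹ ∈ A ∧ ∀ hz, IsConj z1 ⟨z, hz⟩ := fun z hz w hw e => by
    obtain ⟨d, rfl⟩ := isConj_iff.mp e
    obtain ⟨k, hk, hk2⟩ := hR.exists_cj_le (isPGroup_zpowers_of_pow_eq_one (k := 1) (x := d * w * d⁻¹)
      (by rw [pow_one, conj_pow, h.ex w hw]; simp)) (zpowers_le.mpr hz)
    have h1 : k * (d * w * d⁻¹) * k⁻¹ ∈ R := hk2 (conj_mem_cj.mpr (mem_zpowers _))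
    have h2 : c * (k * (d * w * d⁻¹) * k⁻¹) * c⁻¹ ∈ A := by
      simpa [mul_assoc] using h.sc.2 w hw (c * k * d) (by simpa [mul_assoc] using hc (conj_mem_cj.mpr h1))
    refine ⟨⟨_, hR.le h1⟩, (isConj_conj _ _).symm, ⟨h1, fun r hr => Subtype.ext ?_⟩, h2,
      fun hz => (isConj_conj (⟨k, hk⟩ : H) ⟨_, hz⟩).symm⟩
    exact (MulAut.conj c).injective (by simpa [mul_assoc] using h.cen h2 _ (hc (conj_mem_cj.mpr hr)))
  have hxH : x ∈ H := subset_closure (Or.inl rfl)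
  have hyH : g * y * g⁻¹ ∈ H := subset_closure (Or.inr rfl)
  obtain ⟨x2, h1, h2, h3, h4⟩ := key x hxH x hx (IsConj.refl x)
  obtain ⟨y2, h5, h6, h7, h8⟩ := key _ hyH y hy (isConj_conj g y)
  refine ⟨_, h3, _, h7, (isConj_conj _ _).symm.trans h1, (isConj_conj _ _).symm.trans (h5.trans (isConj_conj g y).symm),
    fun k => ?_⟩
  obtain ⟨u, h9, h10⟩ := pair_abs hs (R := R.subgroupOf H) (sylowIn_top hR.toSylow) (x := ⟨x, hxH⟩) (y := ⟨_, hyH⟩)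
    (by
      refine map_injective (subtype_injective H) ?_
      rw [MonoidHom.map_closure, ← MonoidHom.range_eq_map, range_subtype, Set.image_pair]; rfl) (h4 _) (h8 _) h2 h6 k
  refine ⟨u, by simpa [conj_zpow] using h9.map hp.out H.subtype, (H.subtype.map_isConj h10).trans ?_⟩
  exact isConj_iff.mpr ⟨c, by rw [conj_zpow]; simp [mul_assoc]⟩

theorem ne_inv (h2 : p ≠ 2) (ha : a ∈ A) (h1 : a ≠ 1) : a ≠ a⁻¹ := fun e =>
  h2 ((Nat.prime_dvd_prime_iff_eq hp.out Nat.prime_two).mp (h.ord ha h1 ▸ orderOf_dvd_of_pow_eq_one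
    (by rw [pow_two, ← eq_inv_iff_mul_eq_one, ← e])))

theorem real (h2 : p ≠ 2) (ha : a ∈ A) (h1 : a ≠ 1) (e : IsConj a a⁻¹) (hb : b ∈ A) : IsConj b b⁻¹ := by
  obtain ⟨n, hn, e⟩ := h.fus ha (inv_mem ha) e
  have hn := h.norm_le hn
  have h3 : n * n ∈ 𝐂(A) := h.frob a ha h1 ⟨mem_cent.mpr (mul_inv_eq_iff_eq_mul.mp (by
    rw [show n * n * a * (n * n)⁻¹ = n * (n * a * n⁻¹) * n⁻¹ by group, e, ← conj_inv, e, inv_inv])), mul_mem hn hn⟩
  have h4 := Transfer.conj_mem_of_mem_normalizer hn hb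
  refine isConj_iff.mpr ⟨n, eq_inv_of_mul_eq_one_right ?_⟩
  by_contra h5
  have h6 : n ∈ 𝐂(A) := h.frob _ (mul_mem hb h4) h5 ⟨mem_cent.mpr (mul_inv_eq_iff_eq_mul.mp (by
    rw [show n * (b * (n * b * n⁻¹)) * n⁻¹ = n * b * n⁻¹ * (n * n * b * (n * n)⁻¹) by group,
      conj_eq_of_mem_centralizer h3 hb, (h.comm hb h4).eq])), hn⟩
  exact h.ne_inv h2 ha h1 ((conj_eq_of_mem_centralizer h6 ha).symm.trans e)

theorem abelian (h2 : p ≠ 2) (ha : a ∈ A) (h1 : a ≠ 1) (e : IsConj a a⁻¹) : P ≤ 𝐂(P) := by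
  obtain ⟨m, hm, e⟩ := h.fus ha (inv_mem ha) e
  obtain ⟨k, hk⟩ := exists_pow_coprime_orderOf (p := p) m
  have e' : m ^ p ^ k * a * (m ^ p ^ k)⁻¹ = a⁻¹ := Invol.conj_odd_pow_of_swap e (by rw [← conj_inv, e, inv_inv])
    ((hp.out.odd_of_ne_two h2).pow)
  have hn : m ^ p ^ k ∈ 𝐍(P) := pow_mem hm _
  generalize m ^ p ^ k = n at hk e' hn
  have h3 : n * n ∈ 𝐂(P) := (h.nil a (h.ord ha h1)).mem_centralizer h.syl.isPGroup (h.le_cent ha) (mem_resOf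
    (mem_cent.mpr (mul_inv_eq_iff_eq_mul.mp (by
      rw [show n * n * a * (n * n)⁻¹ = n * (n * a * n⁻¹) * n⁻¹ by group, e', ← conj_inv, e', inv_inv])))
    (hk.coprime_dvd_left (pow_two n ▸ orderOf_pow_dvd 2))) (mul_mem hn hn)
  intro x hx y hy
  refine congrArg Subtype.val (MonoidHom.FixedPointFree.commute_all_of_involutive
    (φ := P.normalizerMonoidHom ⟨n, hn⟩) (fun y hy => ?_) (fun y => Subtype.ext ?_) ⟨y, hy⟩ ⟨x, hx⟩)
  · by_contra y1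
    obtain ⟨z, hz, hz2, -⟩ := Invol.exists_central (h.syl.isPGroup.to_le (zpowers_le.mpr y.2))
      (by simpa using y1)
    have h4 : n ∈ 𝐂[z] := by
      obtain ⟨i, rfl⟩ := hz
      exact mem_cent.mpr (Commute.zpow_right (mul_inv_eq_iff_eq_mul.mp (congrArg Subtype.val hy)) i)
    have h5 := (h.nil z hz2).mem_centralizer (Q := P ⊓ 𝐂[z]) (h.syl.isPGroup.to_le inf_le_left) inf_le_right
      (mem_resOf h4 hk) (mem_normalizer_of_cj_le (by
        rw [cj_inf, cj_eq_of_mem_normalizer hn, cj_eq_of_mem h4]))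
    exact h.ne_inv h2 ha h1 ((conj_eq_of_mem_centralizer h5 ⟨h.sc.1 ha,
      mem_cent.mpr (h.cen ha z (zpowers_le.mpr y.2 hz)).symm⟩).symm.trans e')
  · simpa [mul_assoc] using conj_eq_of_mem_centralizer h3 y.2

theorem normal_of_sub (hO : pPrimeCore p G = ⊥) {B : Subgroup G} [B.Normal] (hB : B ≤ A) (h0 : B ≠ ⊥) : P.Normal := by
  obtain ⟨b, hb, b1⟩ := (bot_or_exists_ne_one B).resolve_left h0
  have h1 : PNil p 𝐂(B) := (h.nil b (h.ord (hB hb) b1)).mono (centralizer_le (by simpa using hb))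
  haveI := resOf_normal (p := p) 𝐂(B)
  have h2 : P ≤ 𝐂(B) := le_centralizer_iff.mp (hB.trans h.cen)
  have := (h.syl.mono h2 le_top).resOf_sup
  rw [eq_bot_of_pPrimeCore_eq_bot hO h1.coprime, bot_sup_eq] at this
  exact this ▸ inferInstance

theorem sub (K : Subgroup G) [K.Normal] (h0 : A ⊓ K ≠ ⊥) : GS p (P.subgroupOf K) (A.subgroupOf K) where
  syl := inf_subgroupOf_right P K ▸ sylowIn_top (h.syl.inf_of_le (N := K) le_normalizer_of_normal le_top).toSylow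
  sc := ⟨comap_mono h.sc.1, fun x hx g hg => h.sc.2 _ hx _ hg⟩
  cen := fun x hx y hy => Subtype.ext (h.cen hx _ hy)
  ex := fun a ha => Subtype.ext (h.ex _ ha)
  ne := fun e => h0 (subgroupOf_eq_bot.mp e).eq_bot
  nil := fun x hx => (pnil_map_iff_of_injective (subtype_injective K)).mp ((h.nil x (by simpa using hx)).mono (by
    rintro _ ⟨y, hy, rfl⟩; exact mem_cent.mpr ((mem_cent.mp hy).map K.subtype)))
  sol := fun x y hx hy => by
    have := h.sol x y (by simpa using hx) (by simpa using hy)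
    rw [show ({(x : G), (y : G)} : Set G) = K.subtype '' {x, y} by simp [Set.image_pair], ← MonoidHom.map_closure] at this
    exact (isPSolvable_congr hp.out (equivMapOfInjective _ _ (subtype_injective K))).mpr this

theorem normal_of_normal (hO : pPrimeCore p G = ⊥) (K : Subgroup G) [K.Normal] (h0 : A ⊓ K ≠ ⊥)
    (hn : (P.subgroupOf K).Normal) : P.Normal := by
  have h1 : P ⊓ K ≤ pCore p G := by
    rw [← subgroupOf_map_subtype]
    exact (map_mono (le_pCore (isPGroup_subgroupOf h.syl.isPGroup K))).trans (map_subtype_pCore_le K)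
  have h2 : pCore p G ≤ P := h.syl.le_of_le_normalizer (isPGroup_pCore _ _) le_top le_normalizer_of_normal
  haveI : (A ⊓ K).Normal := ⟨fun x hx g => ⟨h.sc.2 x hx.1 g (h2 (Subgroup.Normal.conj_mem inferInstance _
    (h1 ⟨h.sc.1 hx.1, hx.2⟩) g)), Subgroup.Normal.conj_mem inferInstance _ hx.2 g⟩⟩
  exact h.normal_of_sub hO inf_le_left h0

end GS

end Cfsg.Lib.GSz
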