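import Cfsg.Agent.Lib.ZD.G1
import Cfsg.Agent.Lib.Block.Homocyc

/-! Glauberman's characterization of the Suzuki groups, part 2: the principal block, odd `p`. -/

set_option autoImplicit false
set_option linter.unusedSectionVars false

namespace Cfsg.Lib.GSz

open Subgroup MulAction Cfsg.Lib.Core Cfsg.Lib.BG1 Cfsg.Lib.Transfer Cfsg.Lib.Block Cfsg.Lib.Block2 Cfsg.Lib.Char
open Cfsg.Lib.Invol (mem_cent isConj_conj orderOf_conj orderOf_of_isConj)
open scoped ComplexConjugate Classical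

universe u

section
variable {G : Type*} [Group G] [Fintype G] {p : ℕ} [hp : Fact p.Prime] {P A : Subgroup G} {x y : G}
  {M : Ideal AlgInt} [M.IsMaximal] [Fintype (principalBlock M G)]

/-- `A#` -/
noncomputable def Ah (A : Subgroup G) : Finset G := Finset.univ.filter fun a => a ∈ A ∧ a ≠ 1

theorem mem_Ah : x ∈ Ah A ↔ x ∈ A ∧ x ≠ 1 := by simp [Ah]

theorem card_Ah : (Ah A).card + 1 = Nat.card A := by
  rw [← SetLike.coe_sort_coe, Nat.card_coe_set_eq, ← Finset.card_insert_of_notMem (a := 1) (by simp [mem_Ah]),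
    ← Set.ncard_coe_finset]
  congr 1
  ext x
  by_cases h : x = 1 <;> simp [mem_Ah, h]

theorem inv_Ah (hx : x ∈ Ah A) : x⁻¹ ∈ Ah A := by simpa [mem_Ah] using hx

/-- the sum of a character over `A#` -/
noncomputable def sg (A : Subgroup G) (χ : G → ℂ) : ℝ := ∑ a ∈ Ah A, (χ a).re

theorem sg_eq {χ : G → ℂ} (hχ : IsCharacter G χ) : ∑ a ∈ Ah A, χ a = sg A χ := by
  have : conj (∑ a ∈ Ah A, χ a) = ∑ a ∈ Ah A, χ a := by
    rw [map_sum]
    exact Finset.sum_equiv (Equiv.inv G) (by simp [mem_Ah]) fun a _ => (hχ.apply_inv a).symm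
  rw [← Complex.conj_eq_iff_re.mp this, Complex.re_sum, sg]

theorem re_le {χ : G → ℂ} (hχ : IsCharacter G χ) (g : G) : (χ g).re ≤ charDegree χ :=
  (Complex.re_le_norm _).trans ((hχ.norm_le g).trans_eq (by rw [← cast_deg hχ, Complex.norm_natCast]))

theorem re_lt {χ : G → ℂ} (hχ : IsCharacter G χ) {g : G} (h : χ g ≠ χ 1) : (χ g).re < charDegree χ :=
  (re_le hχ g).lt_of_ne fun e => h (by
    have h1 := hχ.norm_le g
    rw [← cast_deg hχ, Complex.norm_natCast] at h1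
    have h2 := Complex.abs_re_eq_norm.mp (le_antisymm (Complex.abs_re_le_norm (χ g)) (h1.trans (e ▸ le_abs_self _)))
    rw [← cast_deg hχ]
    exact Complex.ext e h2)

theorem deg_pos (χ : IrrCharacter G) : (0 : ℝ) < charDegree χ.1 :=
  Nat.cast_pos.mpr (Nat.pos_of_ne_zero fun e => χ.2.apply_one_ne_zero (by rw [← irr_cast_deg, e, Nat.cast_zero]))

namespace GS

variable (h : GS p P A) (hM : IsPModular p M)
include h hM

theorem ker (hx : x ∈ Ah A) (hy : y ∈ Ah A) :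
    ∑ χ : principalBlock M G, χ.1.1 x * conj (χ.1.1 y) = if IsConj x y then (Nat.card P : ℂ) else 0 := by
  have o := fun z (hz : z ∈ Ah A) => (⟨1, by rw [pow_one, h.ord (mem_Ah.mp hz).1 (mem_Ah.mp hz).2]⟩ :
    ∃ k, orderOf z = p ^ k)
  split_ifs with e
  · rw [← ker_self_of_pnil hM (o x hx) (h.nil x (h.ord (mem_Ah.mp hx).1 (mem_Ah.mp hx).2)) (h.sylc (mem_Ah.mp hx).1)]
    exact Finset.sum_congr rfl fun χ _ => by rw [χ.1.2.isClassFunction.eq_of_isConj e]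
  · exact ker_eq_zero hM (isPPart_self hp.out (o x hx)) (isPPart_self hp.out (o y hy)) e

omit hM in
theorem card_fil (hx : x ∈ Ah A) : ((Ah A).filter (IsConj x)).card = (𝐂(A)).relIndex 𝐍(A) := by
  rw [← h.card_cls (mem_Ah.mp hx).1 (mem_Ah.mp hx).2, Nat.card_coe_set_eq, ← Set.ncard_coe_finset]
  congr 1
  ext y
  simp only [Finset.coe_filter, mem_Ah, Set.mem_setOf_eq]
  exact ⟨fun h => ⟨h.1.1, h.2⟩, fun h => ⟨⟨h.1, fun e => (mem_Ah.mp hx).2 (by simpa [e] using h.2)⟩, h.2⟩⟩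

theorem phi (hx : x ∈ Ah A) :
    ∑ χ : principalBlock M G, χ.1.1 x * sg A χ.1.1 = (𝐂(A)).relIndex 𝐍(A) * Nat.card P := by
  have : ∀ χ : principalBlock M G, (sg A χ.1.1 : ℂ) = ∑ a ∈ Ah A, conj (χ.1.1 a) := fun χ => by
    rw [← map_sum, sg_eq χ.1.2.isCharacter, Complex.conj_ofReal]
  simp only [this, Finset.mul_sum]
  rw [Finset.sum_comm, Finset.sum_congr rfl fun y hy => h.ker hM hx hy, ← Finset.sum_filter, Finset.sum_const,
    h.card_fil hx, nsmul_eq_mul]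

theorem phi_reg {w : G} (hw : ¬ p ∣ orderOf w) : ∑ χ : principalBlock M G, χ.1.1 w * sg A χ.1.1 = 0 := by
  have : ∀ χ : principalBlock M G, (sg A χ.1.1 : ℂ) = ∑ a ∈ Ah A, conj (χ.1.1 a) := fun χ => by
    rw [← map_sum, sg_eq χ.1.2.isCharacter, Complex.conj_ofReal]
  simp only [this, Finset.mul_sum]
  rw [Finset.sum_comm]
  exact Finset.sum_eq_zero fun y hy => ker_eq_zero hM (isPPart_one_iff.mpr hw) (isPPart_self hp.out
    ⟨1, by rw [pow_one, h.ord (mem_Ah.mp hy).1 (mem_Ah.mp hy).2]⟩) (by simpa using (mem_Ah.mp hy).2.symm)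

theorem sing (hx : x ∈ Ah A) (hy : y ∈ Ah A) (g : G) : (¬ p ∣ orderOf (x * (g * y * g⁻¹)) ∧ IsConj x⁻¹ y) ∨
    p ∣ orderOf (x * (g * y * g⁻¹)) ∧ ∃ z ∈ Ah A, ∀ χ : principalBlock M G, χ.1.1 (x * (g * y * g⁻¹)) = χ.1.1 z := by
  obtain ⟨a, ha, b, hb, h1, h2, h3⟩ := h.pair (mem_Ah.mp hx).1 (mem_Ah.mp hy).1 (mem_Ah.mp hx).2 (mem_Ah.mp hy).2 g
  obtain ⟨u, h4, h5⟩ := h3 1
  rw [zpow_one] at h4 h5
  by_cases e : a * b = 1
  · refine Or.inl ⟨(h4.eq_one_iff hp.out).mp (by simpa [e] using h5), ?_⟩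
    obtain ⟨c, rfl⟩ := isConj_iff.mp h1
    rw [conj_inv, ← eq_inv_of_mul_eq_one_right e]
    exact (isConj_conj c b).symm.trans h2
  · refine Or.inr ⟨not_not.mp fun h6 => e (by simpa [(h4.eq_one_iff hp.out).mpr h6] using h5.symm), _,
      mem_Ah.mpr ⟨mul_mem ha hb, e⟩, fun χ => ?_⟩
    rw [apply_eq_of_pnil hM h4 (h.nil u ((orderOf_of_isConj h5).trans (h.ord (mul_mem ha hb) e))),
      χ.1.2.isClassFunction.eq_of_isConj h5]

omit hM in
theorem not_both (h2 : p ≠ 2) (hx : x ∈ Ah A) (hy : y ∈ Ah A) (g : G) (h0 : ¬ p ∣ orderOf (x * (g * y * g⁻¹))) :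
    p ∣ orderOf (x * (g * y⁻¹ * g⁻¹)) := by
  obtain ⟨a, ha, b, hb, h1, -, h3⟩ := h.pair (mem_Ah.mp hx).1 (mem_Ah.mp hy).1 (mem_Ah.mp hx).2 (mem_Ah.mp hy).2 g
  obtain ⟨u, h4, h5⟩ := h3 1
  obtain ⟨v, h6, h7⟩ := h3 (-1)
  rw [zpow_one] at h4 h5
  rw [zpow_neg_one] at h6 h7
  by_contra h8
  rw [(h4.eq_one_iff hp.out).mpr h0, isConj_one_right] at h5
  rw [(h6.eq_one_iff hp.out).mpr h8, isConj_one_right] at h7
  exact h.ne_inv h2 ha (fun e => (mem_Ah.mp hx).2 (by simpa [e, eq_comm] using h1))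
    ((mul_inv_eq_one.mp h7).trans (eq_inv_of_mul_eq_one_right h5))

theorem norm : ∑ χ : principalBlock M G, sg A χ.1.1 ^ 2 = (Ah A).card * ((𝐂(A)).relIndex 𝐍(A) * Nat.card P) := by
  have := Finset.sum_congr rfl fun x (hx : x ∈ Ah A) => h.phi hM hx
  rw [Finset.sum_comm, Finset.sum_const, nsmul_eq_mul] at this
  simp only [← Finset.sum_mul, fun χ : principalBlock M G => sg_eq (A := A) χ.1.2.isCharacter, ← sq] at this
  exact_mod_cast this

theorem mean (h2 : p ≠ 2) {E : ℕ} (hE : ∀ x ∈ Ah A, ((Ah A).filter fun y => IsConj x y ∨ IsConj x⁻¹ y).card ≤ E) :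
    ∑ χ : principalBlock M G, sg A χ.1.1 ^ 2 * ((Ah A).card - sg A χ.1.1 / charDegree χ.1.1) ≤
      (Ah A).card * ((𝐂(A)).relIndex 𝐍(A) * Nat.card P) * E / 2 := by
  set c : ℝ := (𝐂(A)).relIndex 𝐍(A) * Nat.card P with hc
  have c0 : 0 ≤ c := by positivity
  have k1 : ∀ x ∈ Ah A, ∀ g : G, c * ((Ah A).card - E / 2) ≤
      ∑ y ∈ Ah A, (∑ χ : principalBlock M G, χ.1.1 (x * (g * y * g⁻¹)) * sg A χ.1.1).re := fun x hx g => by
    set Y := (Ah A).filter fun y => ¬ p ∣ orderOf (x * (g * y * g⁻¹))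
    have h1 : Y.card + Y.card ≤ E := by
      refine le_trans ?_ (hE x hx)
      nth_rewrite 2 [← Finset.card_map (Equiv.inv G).toEmbedding (s := Y)]
      rw [← Finset.card_union_of_disjoint (Finset.disjoint_left.mpr fun y h1 h3 => ?_)]
      · refine Finset.card_le_card (Finset.union_subset (fun y hy => ?_) fun y hy => ?_)
        · obtain ⟨h3, h4⟩ := Finset.mem_filter.mp hy
          exact Finset.mem_filter.mpr ⟨h3, Or.inr ((h.sing hM hx h3 g).resolve_right fun e => h4 e.1).2⟩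
        · obtain ⟨z, hz, rfl⟩ := Finset.mem_map.mp hy
          obtain ⟨h3, h4⟩ := Finset.mem_filter.mp hz
          obtain ⟨k, rfl⟩ := isConj_iff.mp ((h.sing hM hx h3 g).resolve_right fun e => h4 e.1).2
          exact Finset.mem_filter.mpr ⟨inv_Ah h3, Or.inl (isConj_iff.mpr ⟨k, by simp [mul_assoc]⟩)⟩
      · obtain ⟨z, hz, rfl⟩ := Finset.mem_map.mp h3
        obtain ⟨h3, h4⟩ := Finset.mem_filter.mp hz
        exact (Finset.mem_filter.mp h1).2 (h.not_both h2 hx h3 g h4)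
    have h3 : ∀ y ∈ Ah A, (∑ χ : principalBlock M G, χ.1.1 (x * (g * y * g⁻¹)) * sg A χ.1.1).re =
        c - if ¬ p ∣ orderOf (x * (g * y * g⁻¹)) then c else 0 := fun y hy => by
      rcases h.sing hM hx hy g with ⟨h4, -⟩ | ⟨h4, z, hz, h5⟩
      · rw [h.phi_reg hM h4, if_pos h4]; simp
      · simp only [h5, h.phi hM hz, h4, hc]; simp
    rw [Finset.sum_congr rfl h3, Finset.sum_sub_distrib, ← Finset.sum_filter, Finset.sum_const, Finset.sum_const,
      nsmul_eq_mul, nsmul_eq_mul]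
    have h4 : (Y.card : ℝ) + Y.card ≤ E := by exact_mod_cast h1
    nlinarith
  have k2 : ∑ x ∈ Ah A, ∑ g : G, ∑ y ∈ Ah A, ∑ χ : principalBlock M G, χ.1.1 (x * (g * y * g⁻¹)) * sg A χ.1.1 =
      ((Nat.card G * ∑ χ : principalBlock M G, sg A χ.1.1 ^ 3 / charDegree χ.1.1 : ℝ) : ℂ) := by
    simp only [Finset.sum_comm (s := (Finset.univ : Finset G)) (t := Ah A)]
    simp only [Finset.sum_comm (s := (Finset.univ : Finset G)) (t := (Finset.univ : Finset (principalBlock M G))),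
      ← Finset.sum_mul, fun χ : principalBlock M G => sum_apply_mul_conj χ.1.2]
    simp only [Finset.sum_comm (s := Ah A) (t := (Finset.univ : Finset (principalBlock M G))), ← Finset.sum_mul,
      ← Finset.sum_div, ← Finset.mul_sum, fun χ : principalBlock M G => sg_eq (A := A) χ.1.2.isCharacter]
    push_cast
    rw [Finset.mul_sum]
    exact Finset.sum_congr rfl fun χ _ => by rw [irr_cast_deg]; ring
  have k3 := Finset.sum_le_sum fun x hx => Finset.sum_le_sum fun g (_ : g ∈ Finset.univ) => k1 x hx g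
  simp only [← Complex.re_sum] at k3
  rw [k2, Complex.ofReal_re, Finset.sum_const, Finset.sum_const, Finset.card_univ, ← Nat.card_eq_fintype_card,
    nsmul_eq_mul, nsmul_eq_mul, mul_left_comm, mul_le_mul_iff_right₀ (Nat.cast_pos.mpr Nat.card_pos)] at k3
  simp only [mul_sub, Finset.sum_sub_distrib, ← Finset.sum_mul, h.norm hM, ← mul_div_assoc, ← pow_succ, ← hc] at k3 ⊢
  linarith

theorem re_nonpos (hx : x ∈ Ah A) (hy : y ∈ Ah A) (e : ¬ IsConj x⁻¹ y) (χ : principalBlock M G)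
    (hmin : ∀ z ∈ Ah A, (χ.1.1 x).re ≤ (χ.1.1 z).re) (hk : χ.1.1 y ≠ χ.1.1 1) (hr : y = x ∨ IsConj y y⁻¹) :
    (χ.1.1 x).re ≤ 0 := by
  have h1 := Finset.sum_le_sum fun g (_ : g ∈ Finset.univ) => (show (χ.1.1 x).re ≤ (χ.1.1 (x * (g * y * g⁻¹))).re by
    obtain ⟨-, z, hz, h5⟩ := (h.sing hM hx hy g).resolve_left fun h => e h.2
    rw [h5]; exact hmin z hz)
  rw [Finset.sum_const, ← Complex.re_sum, sum_apply_mul_conj χ.1.2, ← irr_cast_deg, Finset.card_univ,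
    ← Nat.card_eq_fintype_card, nsmul_eq_mul, Complex.div_natCast_re, mul_assoc, ← Complex.ofReal_natCast, Complex.re_ofReal_mul, mul_div_assoc,
    mul_le_mul_iff_right₀ (Nat.cast_pos.mpr Nat.card_pos), le_div_iff₀ (deg_pos _), Complex.mul_re] at h1
  have h2 : 0 ≤ (χ.1.1 x).im * (χ.1.1 y).im := by
    rcases hr with rfl | hr
    · exact mul_self_nonneg _
    · rw [Complex.conj_eq_iff_im.mp ((χ.1.2.isCharacter.apply_inv y).symm.trans
        (χ.1.2.isClassFunction.eq_of_isConj hr).symm), mul_zero]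
  have h3 := re_lt χ.1.2.isCharacter hk
  nlinarith

omit h hM in
theorem gap (χ : IrrCharacter G) (h0 : (χ.1 x).re ≤ 0) :
    (((Ah A).filter fun y => IsConj x y ∨ IsConj x⁻¹ y).card : ℝ) ≤ (Ah A).card - sg A χ.1 / charDegree χ.1 := by
  rw [sg, Finset.sum_div, Finset.card_eq_sum_ones (Ah A), Finset.card_filter]
  push_cast
  rw [← Finset.sum_sub_distrib]
  refine Finset.sum_le_sum fun y _ => ?_
  split_ifs with e
  · have : (χ.1 y).re = (χ.1 x).re := by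
      rcases e with e | e <;> rw [← χ.2.isClassFunction.eq_of_isConj e]
      rw [χ.2.isCharacter.apply_inv, Complex.conj_re]
    linarith [div_nonpos_of_nonpos_of_nonneg (this ▸ h0) (deg_pos χ).le]
  · linarith [(div_le_one (deg_pos χ)).mpr (re_le χ.2.isCharacter y)]

omit hM in
theorem exists_E (h2 : p ≠ 2) : ∃ E, 0 < E ∧ ∀ x ∈ Ah A, ((Ah A).filter fun y => IsConj x y ∨ IsConj x⁻¹ y).card = E := by
  have e0 : 0 < (𝐂(A)).relIndex 𝐍(A) := Nat.pos_of_ne_zero index_ne_zero_of_finite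
  by_cases hr : ∃ a ∈ Ah A, IsConj a a⁻¹
  · obtain ⟨a, ha, e⟩ := hr
    refine ⟨_, e0, fun x hx => ?_⟩
    rw [← h.card_fil hx]
    exact congrArg _ (Finset.filter_congr fun y _ => or_iff_left_of_imp
      (h.real h2 (mem_Ah.mp ha).1 (mem_Ah.mp ha).2 e (mem_Ah.mp hx).1).trans)
  · refine ⟨_, add_pos e0 e0, fun x hx => ?_⟩
    rw [Finset.filter_or, Finset.card_union_of_disjoint (Finset.disjoint_filter.mpr fun y _ h1 h3 =>
      hr ⟨x, hx, h1.trans h3.symm⟩), h.card_fil hx, h.card_fil (inv_Ah hx)]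

omit hM in
theorem card_pos : 0 < (Ah A).card := by
  have := card_Ah (A := A)
  have := (one_lt_card_iff_ne_bot A).mpr h.ne
  omega

theorem pnil (h2 : p ≠ 2) (hk : ∀ χ ≠ oneB M G, ∀ x ∈ Ah A, χ.1.1 x ≠ χ.1.1 1)
    (hc : ∀ x ∈ Ah A, ∃ y ∈ Ah A, ¬ IsConj x⁻¹ y ∧ (y = x ∨ IsConj y y⁻¹)) : PNil p (⊤ : Subgroup G) := by
  obtain ⟨E, E0, hE⟩ := h.exists_E h2
  have n0 : (0 : ℝ) < (Ah A).card := Nat.cast_pos.mpr h.card_pos
  have h1 := h.mean hM h2 fun x hx => (hE x hx).le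
  have h3 : ∀ χ : principalBlock M G, sg A χ.1.1 ^ 2 * E - (if χ = oneB M G then ((Ah A).card : ℝ) ^ 2 * E else 0) ≤
      sg A χ.1.1 ^ 2 * ((Ah A).card - sg A χ.1.1 / charDegree χ.1.1) := fun χ => by
    split_ifs with e
    · have : charDegree (oneB M G).1.1 = 1 := by exact_mod_cast (irr_cast_deg (oneB M G).1).trans (oneB_apply 1)
      simp [e, sg, this]
    · obtain ⟨x, hx, hm⟩ := (Ah A).exists_min_image (fun z => (χ.1.1 z).re) (Finset.card_pos.mp h.card_pos)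
      obtain ⟨y, hy, h4, h5⟩ := hc x hx
      rw [sub_zero, ← hE x hx]
      exact mul_le_mul_of_nonneg_left (gap χ.1 (h.re_nonpos hM hx hy h4 χ hm (hk χ e y hy) h5)) (sq_nonneg _)
  have h4 := (Finset.sum_le_sum fun χ _ => h3 χ).trans h1
  rw [Finset.sum_sub_distrib, ← Finset.sum_mul, h.norm hM, Finset.sum_ite_eq', if_pos (Finset.mem_univ _)] at h4
  have h5 : ((𝐂(A)).relIndex 𝐍(A) * Nat.card P : ℝ) ≤ 2 * (Ah A).card :=
    le_of_mul_le_mul_left (by linarith) (mul_pos n0 (Nat.cast_pos.mpr E0))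
  have h6 : (𝐂(A)).relIndex 𝐍(A) * Nat.card P ≤ 2 * (Ah A).card := by exact_mod_cast h5
  have h7 := card_Ah (A := A)
  have e0 : (𝐂(A)).relIndex 𝐍(A) ≠ 0 := index_ne_zero_of_finite
  obtain ⟨k, hk⟩ := card_dvd_of_le h.sc.1
  have k0 : k ≠ 0 := by rintro rfl; exact Nat.card_pos.ne' hk
  have h8 : (𝐂(A)).relIndex 𝐍(A) * k < 2 := by rw [hk] at h6; nlinarith
  obtain ⟨h9, rfl⟩ := mul_eq_one.mp (show (𝐂(A)).relIndex 𝐍(A) * k = 1 by have := mul_ne_zero e0 k0; omega)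
  obtain rfl : A = P := eq_of_le_of_card_ge h.sc.1 (by omega)
  exact h.syl.pnil_of_normalizer_le_centralizer (inf_le_right.trans (relIndex_eq_one.mp h9))

omit h hM in
theorem norm_orb {ι : Type*} {S : Set ι} (hS : S.Finite) {f : ι → ℂ} (hf : ∀ i, ‖f i‖ = 1) :
    ‖∑ᶠ i ∈ S, f i‖ ≤ S.ncard := by
  rw [finsum_mem_eq_finite_toFinset_sum _ hS, Set.ncard_eq_toFinset_card _ hS]
  simpa [hf] using norm_sum_le hS.toFinset f

theorem bound (hP : P ≤ 𝐂(P)) (hx : x ∈ Ah A) (ht : ∀ y ∈ Ah A, IsConj x y) (χ : principalBlock M G) {c : ℤ}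
    (hc : χ.1.1 x = c) : c ≤ Nat.card A := by
  have h7 := card_Ah (A := A)
  have n0 := h.card_pos
  obtain ⟨r, hr⟩ := card_dvd_of_le h.sc.1
  rcases Nat.lt_or_ge 1 r with r1 | r1
  · have hA : ∀ a b : P, a * b = b * a := fun a b => Subtype.ext (hP b.2 a a.2)
    have hf : ∀ y ∈ P, y ≠ 1 → 𝐂[y] ⊓ 𝐍(P) ≤ 𝐂(P) := fun y hy y1 => by
      obtain ⟨z, hz, hz2, -⟩ := Invol.exists_central (h.syl.isPGroup.to_le (zpowers_le.mpr hy)) (by simpa using y1)
      refine le_trans (inf_le_inf_right _ fun g hg => ?_) (h.stab le_rfl hP (hP (zpowers_le.mpr hy hz)) hz2)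
      obtain ⟨i, rfl⟩ := hz
      exact mem_cent.mpr ((mem_cent.mp hg).zpow_right i)
    have hm : (𝐂(P)).relIndex 𝐍(P) = (Ah A).card := by
      rw [relIndex, ← stabilizer_elt hf (y := ⟨x, h.sc.1 (mem_Ah.mp hx).1⟩) (by simpa using (mem_Ah.mp hx).2),
        index_stabilizer, ← Set.ncard_coe_finset, ← Set.ncard_image_of_injective _ Subtype.val_injective]
      refine congrArg _ (Set.ext fun y => ⟨?_, fun hy => ⟨⟨y, h.sc.1 (mem_Ah.mp hy).1⟩,
        (isConj_iff_mem_orbit h.syl hA).mp (ht y hy), rfl⟩⟩)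
      rintro ⟨w, hw, rfl⟩
      obtain ⟨g, hg⟩ := isConj_iff.mp ((isConj_iff_mem_orbit h.syl hA).mpr hw)
      exact mem_Ah.mpr ⟨hg ▸ h.sc.2 x (mem_Ah.mp hx).1 g (hg ▸ w.2), hg ▸ by simpa using (mem_Ah.mp hx).2⟩
    obtain ⟨δ, d, a, ζ, Y, hδ, hY, h2, h3, h4, -, -, h5, h6, h8, -⟩ := exists_abFrob hM h.syl hA hf hm (by nlinarith)
    by_cases e : χ ∈ Y
    · obtain ⟨ψ, ψ1, rfl⟩ := (hY χ).mp e
      have h9 : 1 ≤ ∑ χ ∈ Yᶜ, a χ ^ 2 := by
        simpa [h4] using Finset.single_le_sum (f := fun χ => a χ ^ 2) (fun _ _ => sq_nonneg _) (Finset.mem_compl.mpr h3)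
      have h10 : (Ah A).card + 2 ≤ Y.card := by
        rw [hr, ← h7] at h2
        have : r < Y.card := by nlinarith
        obtain ⟨j, hj⟩ := Nat.exists_eq_add_of_lt this
        rw [hj] at h2 ⊢
        nlinarith
      obtain rfl : d = 0 := by
        by_contra d0
        have : 1 ≤ d ^ 2 := (one_le_sq_iff_one_le_abs d).mpr (Int.one_le_abs d0)
        have h11 : ((Ah A).card : ℤ) + 2 ≤ Y.card := by exact_mod_cast h10
        nlinarith [sq_nonneg (d - δ)]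
      have h11 := norm_orb (Set.toFinite (orbit 𝐍(P) ψ)) (f := fun φ => (φ ⟨x, h.sc.1 (mem_Ah.mp hx).1⟩ : ℂ)) fun φ =>
        Complex.norm_eq_one_of_pow_eq_one (by rw [← Units.val_pow_eq_pow_val, ← map_pow, pow_card_eq_one', map_one,
          Units.val_one]) Nat.card_pos.ne'
      have h12 := congrArg Norm.norm (hc.symm.trans (h6 ψ ψ1 ⟨x, h.sc.1 (mem_Ah.mp hx).1⟩ (by simpa using (mem_Ah.mp hx).2)))
      rw [ncard_orbit_dual hA hf ψ1, hm] at h11
      have h13 : ‖(δ : ℂ)‖ = 1 := by rcases hδ with rfl | rfl <;> simp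
      rw [Int.cast_zero, zero_add, norm_mul, h13, one_mul, Complex.norm_intCast] at h12
      have h14 : |c| ≤ (Ah A).card := by exact_mod_cast h12.trans_le h11
      linarith [le_abs_self c, (by exact_mod_cast h7 : ((Ah A).card : ℤ) + 1 = Nat.card A)]
    · obtain rfl : c = a χ := by exact_mod_cast hc.symm.trans ((h5 χ e).2 x (h.sc.1 (mem_Ah.mp hx).1) (mem_Ah.mp hx).2)
      have h9 := Finset.single_le_sum (f := fun χ => a χ ^ 2) (fun _ _ => sq_nonneg _) (Finset.mem_compl.mpr e)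
      have h10 : (1 : ℤ) ≤ Y.card := by
        have : Y.card ≠ 0 := fun e => by rw [e] at h2; nlinarith
        omega
      nlinarith [sq_nonneg (d - δ), mul_nonneg (sub_nonneg.mpr h10) (sq_nonneg d),
        (by exact_mod_cast h7 : ((Ah A).card : ℤ) + 1 = Nat.card A), Int.le_self_sq (a χ)]
  · have h2 := h.ker hM hx hx
    simp only [IsConj.refl, if_true, Complex.mul_conj] at h2
    have h3 := Finset.single_le_sum (f := fun χ : principalBlock M G => Complex.normSq (χ.1.1 x))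
      (fun _ _ => Complex.normSq_nonneg _) (Finset.mem_univ χ)
    rw [show ∑ χ : principalBlock M G, Complex.normSq (χ.1.1 x) = Nat.card P by exact_mod_cast h2, hc,
      Complex.normSq_intCast] at h3
    have h4 : c * c ≤ Nat.card P := by exact_mod_cast h3
    have h5 : (Nat.card P : ℤ) ≤ Nat.card A := by exact_mod_cast (by nlinarith : Nat.card P ≤ Nat.card A)
    nlinarith [Int.le_self_sq c]

theorem one_class (h2 : p ≠ 2) (hk : ∀ χ ≠ oneB M G, ∀ x ∈ Ah A, χ.1.1 x ≠ χ.1.1 1) (hx : x ∈ Ah A)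
    (ht : ∀ y ∈ Ah A, IsConj x y) : False := by
  have h1 : (𝐂(A)).relIndex 𝐍(A) = (Ah A).card := by rw [← h.card_fil hx, Finset.filter_true_of_mem ht]
  have n0 : (0 : ℝ) < (Ah A).card := Nat.cast_pos.mpr h.card_pos
  obtain ⟨hxA, x1⟩ := mem_Ah.mp hx
  have hv : ∀ χ : principalBlock M G, ∀ y ∈ A, y ≠ 1 → χ.1.1 y = χ.1.1 x := fun χ y hy y1 =>
    (χ.1.2.isClassFunction.eq_of_isConj (ht y (mem_Ah.mpr ⟨hy, y1⟩))).symm
  choose c hc using fun χ : principalBlock M G => χ.1.2.isGeneralizedCharacter.exists_int_of_pow hp.out.ne_zero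
    (h.ex x hxA) fun k hk => hv χ _ (pow_mem hxA k) fun e => hp.out.one_lt.ne'
      (hk.symm.eq_one_of_dvd (h.ord hxA x1 ▸ orderOf_dvd_of_pow_eq_one e))
  have hs : ∀ χ : principalBlock M G, sg A χ.1.1 = (Ah A).card * c χ := fun χ => by
    rw [sg, Finset.sum_congr rfl fun y hy => congrArg Complex.re
      ((hv χ y (mem_Ah.mp hy).1 (mem_Ah.mp hy).2).trans (hc χ))]
    simp
  have c1 : c (oneB M G) = 1 := by exact_mod_cast (hc _).symm.trans (oneB_apply x)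
  have d1 : charDegree (oneB M G).1.1 = 1 := by exact_mod_cast (irr_cast_deg (oneB M G).1).trans (oneB_apply 1)
  have h3 : ∑ χ : principalBlock M G, (c χ : ℝ) ^ 2 * (1 / 2 - c χ / charDegree χ.1.1) ≤ 0 := by
    have h4 := h.mean hM h2 fun x _ => Finset.card_filter_le _ _
    rw [← h.norm hM, Finset.sum_mul, Finset.sum_div, ← sub_nonpos, ← Finset.sum_sub_distrib] at h4
    refine nonpos_of_mul_nonpos_right ?_ (pow_pos n0 3)
    rw [Finset.mul_sum]
    exact (Finset.sum_congr rfl fun χ _ => by rw [hs]; ring).trans_le h4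
  obtain ⟨ψ, hψ⟩ : ∃ ψ, c ψ < 0 := by
    by_contra! h4
    have h5 := congrArg Complex.re (h.phi_reg hM (w := 1) (by simpa using hp.out.one_lt.ne'))
    simp only [← irr_cast_deg, hs, Complex.re_sum, ← Complex.ofReal_natCast, ← Complex.ofReal_mul, Complex.ofReal_re,
      Complex.zero_re] at h5
    refine absurd h5 (Finset.sum_pos' (fun χ _ => ?_) ⟨oneB M G, Finset.mem_univ _, by simpa [c1, d1] using h.card_pos⟩).ne'
    have : (0 : ℝ) ≤ c χ := by exact_mod_cast h4 χ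
    positivity
  have h5 : ∀ χ : principalBlock M G, (if χ = ψ then (c ψ : ℝ) ^ 2 * (1 / 2 - c ψ / charDegree ψ.1.1) else 0) -
      (if χ = oneB M G then 1 / 2 else 0) ≤ (c χ : ℝ) ^ 2 * (1 / 2 - c χ / charDegree χ.1.1) := fun χ => by
    by_cases e : χ = oneB M G
    · rw [if_pos e, if_neg (by rintro rfl; rw [e] at hψ; omega), e, c1, d1]; norm_num
    rw [if_neg e, sub_zero]
    split_ifs with e'
    · rw [e']
    have h6 := h.bound hM (h.abelian h2 hxA x1 (ht _ (inv_Ah hx))) hx ht χ (hc χ)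
    have h7 := re_lt χ.1.2.isCharacter (hk χ e x hx)
    rw [hc, Complex.intCast_re] at h7
    have h8 := Int.le_of_dvd (sub_pos.mpr (by exact_mod_cast h7))
      (card_dvd_of_const χ.1.2.isCharacter fun y hy y1 => (hv χ y hy y1).trans (hc χ))
    refine mul_nonneg (sq_nonneg _) (sub_nonneg.mpr ((div_le_iff₀ (deg_pos _)).mpr ?_))
    have : (2 * c χ : ℝ) ≤ charDegree χ.1.1 := by exact_mod_cast (by omega : 2 * c χ ≤ charDegree χ.1.1)
    linarith
  have h6 := (Finset.sum_le_sum fun χ _ => h5 χ).trans h3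
  simp only [Finset.sum_sub_distrib, Finset.sum_ite_eq', Finset.mem_univ, if_true] at h6
  have h7 : (c ψ : ℝ) ≤ -1 := by exact_mod_cast (by omega : c ψ ≤ -1)
  have h8 := div_neg_of_neg_of_pos (by linarith : (c ψ : ℝ) < 0) (deg_pos ψ.1)
  nlinarith [mul_le_mul_of_nonneg_right (by nlinarith : (1 : ℝ) ≤ c ψ ^ 2) (by linarith :
    0 ≤ 1 / 2 - (c ψ : ℝ) / charDegree ψ.1.1)]

end GS
end

/-- Glauberman's theorem for odd `p`. -/
theorem GS.normal {p : ℕ} [hp : Fact p.Prime] (h2 : p ≠ 2) (n : ℕ) : ∀ {G : Type u} [Group G] [Finite G]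
    {P A : Subgroup G}, Nat.card G = n → GS p P A → pPrimeCore p G = ⊥ → P.Normal := by
  induction n using Nat.strong_induction_on with
  | _ n ih =>
  intro G _ _ P A hn h hO
  obtain ⟨M, hM⟩ := exists_isPModular hp.out
  haveI := hM.2.1
  haveI := Fintype.ofFinite G
  haveI := Fintype.ofFinite (principalBlock M G)
  by_cases hk : ∀ χ ≠ oneB M G, ∀ x ∈ Ah A, χ.1.1 x ≠ χ.1.1 1
  · by_cases hc : ∀ x ∈ Ah A, ∃ y ∈ Ah A, ¬ IsConj x⁻¹ y ∧ (y = x ∨ IsConj y y⁻¹)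
    · haveI := resOf_normal (p := p) (⊤ : Subgroup G)
      have := h.syl.resOf_sup
      rw [eq_bot_of_pPrimeCore_eq_bot hO (h.pnil hM h2 hk hc).coprime, bot_sup_eq] at this
      exact this ▸ inferInstance
    · push Not at hc
      obtain ⟨x, hx, hc⟩ := hc
      have h1 : IsConj x⁻¹ x := not_not.mp fun e => (hc x hx e).1 rfl
      exact (h.one_class hM h2 hk hx fun y hy => h1.symm.trans (not_not.mp fun e => (hc y hy e).2
        (h.real h2 (mem_Ah.mp hx).1 (mem_Ah.mp hx).2 h1.symm (mem_Ah.mp hy).1))).elim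
  · push Not at hk
    obtain ⟨χ, h1, x, hx, e⟩ := hk
    haveI := χ.1.2.charKer_normal
    have h0 : A ⊓ charKer χ.1.1 ≠ ⊥ := fun e' => (mem_Ah.mp hx).2
      (mem_bot.mp (e' ▸ ⟨(mem_Ah.mp hx).1, χ.1.2.mem_charKer.mpr e⟩))
    exact h.normal_of_normal hO _ h0 (ih _ (hn ▸ Core.card_lt_of_ne_top fun e =>
      h1 (eq_oneB_iff.mpr (χ.1.2.charKer_eq_top_iff.mp e))) rfl (h.sub _ h0) (pPrimeCore_eq_bot_of_normal hO _))

section
variable {G : Type*} [Group G] [Finite G] {p : ℕ} [hp : Fact p.Prime] {P : Subgroup G}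

/-- `Ω₁(Z(P))` -/
def OZ (p : ℕ) (P : Subgroup G) : Subgroup G where
  carrier := {x | x ∈ P ⊓ 𝐂(P) ∧ x ^ p = 1}
  mul_mem' := fun {a b} ha hb => ⟨mul_mem ha.1 hb.1, by
    rw [Commute.mul_pow (hb.1.2 a ha.1.1), ha.2, hb.2, mul_one]⟩
  one_mem' := ⟨one_mem _, one_pow p⟩
  inv_mem' := fun {a} ha => ⟨inv_mem ha.1, by rw [inv_pow, ha.2, inv_one]⟩

theorem gs_of (hP : SylowIn p P ⊤) (h0 : P ≠ ⊥) (ha : ∀ x ∈ P ⊓ 𝐂(P), ∀ g, g * x * g⁻¹ ∈ P → g * x * g⁻¹ ∈ 𝐂(P))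
    (hb : ∀ x ∈ P, orderOf x = p → PNil p 𝐂[x])
    (hc : ∀ x y : G, orderOf x = p → orderOf y = p → IsPSolvable p (closure ({x, y} : Set G))) : GS p P (OZ p P) where
  syl := hP
  sc := ⟨fun _ h => h.1.1, fun x hx g hg => ⟨⟨hg, ha x hx.1 g hg⟩, by rw [conj_pow, hx.2]; simp⟩⟩
  cen := fun _ h => h.1.2
  ex := fun _ h => h.2
  ne := fun e => by
    obtain ⟨z, hz, h1, h2⟩ := Invol.exists_central hP.isPGroup h0
    have : z ∈ OZ p P := ⟨⟨hz, fun y hy => (h2 y hy).symm⟩, h1 ▸ pow_orderOf_eq_one z⟩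
    rw [e, mem_bot] at this
    exact hp.out.one_lt.ne (by rw [← h1, this, orderOf_one])
  nil := fun x hx => by
    obtain ⟨c, -, h1⟩ := hP.exists_cj_le (isPGroup_zpowers_of_orderOf (hx.trans (pow_one p).symm)) le_top
    refine ((hb _ (h1 (conj_mem_cj.mpr (mem_zpowers x))) ((orderOf_conj c x).trans hx)).cj c⁻¹).mono fun y hy => ?_
    simpa [mul_assoc] using (conj_mem_cj (g := c⁻¹) (H := 𝐂[c * x * c⁻¹]) (x := c * y * c⁻¹)).mpr
      (mem_cent.mpr ((mem_cent.mp hy).map (MulAut.conj c)))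
  sol := hc

end

end Cfsg.Lib.GSz
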