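import Cfsg.Agent.Lib.ZD.G2
import Cfsg.Agent.Lib.BS.Bro
import Cfsg.Agent.Lib.Wal.Main
import Cfsg.Agent.Lib.Gsm.Main

/-! Glauberman's characterization of the Suzuki groups, part 3: the prime `2`. -/

set_option autoImplicit false
set_option linter.unusedSectionVars false

namespace Cfsg.Lib.GSz

open Subgroup Cfsg.Lib.Core Cfsg.Lib.BG1 Cfsg.Lib.Transfer Cfsg.Lib.BS
open Cfsg.Lib.Invol

universe u

section
variable {G : Type u} [Group G] [Finite G] {P A H Q : Subgroup G} {t : G}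

theorem RO.suz [IsSimpleGroup G] (h : RO H Q t) (h2 : R2 (⊤ : Subgroup G)) (hf : H.normalCore = ⊥) (hV : Vg H t = ⊥)
    (hc : ¬ IsMulCommutative Q) : Lie.IsoSuzuki G := by
  have z := h.z3 h2 hf hV
  have hD : BN.E2 G ((1 : G) : G ⧸ H) t = Kg H t := by
    rw [BN.E2, h.stab_t, MulAction.stabilizer_quotient, ← sup_bot_eq (Kg H t), ← hV, h.sup_KV]
  have hE := hD ▸ h.K_ne_bot h2
  have hQ : Q = z.K (1 : G) := z.eq_K_of_card (by rw [MulAction.stabilizer_quotient]; exact h.le)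
    h.index_H.symm fun u hu h1 c e => by
      obtain ⟨c, rfl⟩ := QuotientGroup.mk_surjective c
      exact QuotientGroup.eq.2 (by simpa using h.mem_of_conj_mem (g := c⁻¹) hu h1 (by simpa using fix_pt.1 e))
  have hna : ∃ x ∈ Q, ∃ y ∈ Q, x * y ≠ y * x := by
    by_contra hn; push Not at hn; exact hc (PGrp.isMulCommutative_iff_forall.2 hn)
  obtain ⟨s, r, hs⟩ := h.exists_SE
  exact (BN.ZO.suzuki' (h := z) ⟨h.one_ne_t, hQ ▸ h.even, hE, ⟨by rw [smul_pt, mul_one], by rw [smul_pt, h.tt]⟩,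
    hQ ▸ Q0g_le Q (h.s_mem_Q0 hs), hs.two, hQ ▸ hs.rQ, by
      rw [← mul_inv_cancel_left r (t * r), ← mul_assoc r⁻¹, ← hs.eq, mul_assoc r _ t, h.tt'', mul_assoc]⟩
    (hQ ▸ (h.good hf h2).two) (hQ ▸ hna)).2.2

namespace GS

variable (h : GS 2 P A) (hO : pPrimeCore 2 G = ⊥) (hn : ¬ P.Normal)
include h hO hn

theorem le_normal (K : Subgroup G) [K.Normal] (h0 : A ⊓ K ≠ ⊥) : P ≤ K := by
  obtain ⟨z, hz, z1⟩ := (bot_or_exists_ne_one _).resolve_left h0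
  obtain ⟨hz, hzK⟩ := mem_inf.mp hz
  have hS := h.syl.mono (le_sup_right : P ≤ K ⊔ P) le_top
  obtain ⟨g, hg, h1, h2⟩ : ∃ g ∈ K ⊔ P, g * z * g⁻¹ ∈ P ∧ g * z * g⁻¹ ≠ z := by
    by_contra! h1
    have h2 : K ≤ 𝐂[z] := fun k hk => by
      have h3 := Gold.zstar_amb (syl_iff_sylowIn.mpr hS) (h.sc.1 hz) h1 (mem_sup_left hk)
      rw [← map_pPrimeCore_subtype Nat.prime_two] at h3
      have h4 := map_subtype_pPrimeCore_le K (pPrimeCoreOf_inf_le le_sup_left ⟨h3, K.mul_mem (Normal.conj_mem ‹_› z hzK k)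
        (K.inv_mem hzK)⟩)
      rw [hO, mem_bot, mul_inv_eq_one, mul_inv_eq_iff_eq_mul] at h4
      exact mem_cent.mpr h4
    haveI := resOf_normal (p := 2) K
    have h3 := (h.syl.inf_of_le (N := K) le_normalizer_of_normal le_top).resOf_sup
    rw [eq_bot_of_pPrimeCore_eq_bot hO ((h.nil z (h.ord hz z1)).mono h2).coprime, bot_sup_eq, inf_eq_right] at h3
    exact hn (h.normal_of_normal hO K h0 (subgroupOf_eq_top.mpr h3 ▸ inferInstance))
  obtain ⟨w, hw, ho, h3⟩ : ∃ w ∈ (K ⊔ P) ⊓ 𝐍(P), (orderOf w).Coprime 2 ∧ w ∉ 𝐂[z] := by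
    by_contra! h3
    have h4 : (K ⊔ P) ⊓ 𝐍(P) ≤ 𝐂[z] := (hS.mono (le_inf le_sup_right le_normalizer) inf_le_left).resOf_sup.ge.trans
      (sup_le (Transfer.resOf_le_iff.mpr h3) (h.le_cent hz))
    have h5 : SylowIn 2 (cj g P) ((K ⊔ P) ⊓ 𝐂[g * z * g⁻¹]) := (cj_eq_of_mem hg ▸ hS.cj g).mono (le_inf
      (cj_le_iff.mpr fun x hx => mul_mem (mul_mem hg (mem_sup_right hx)) (inv_mem hg)) (cj_le_iff.mpr fun x hx =>
        mem_cent.mpr ((mem_cent.mp (h.le_cent hz hx)).map (MulAut.conj g)))) inf_le_left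
    obtain ⟨c, hc, e⟩ := h5.exists_cj_eq (hS.mono (le_inf le_sup_right (h.le_cent (h.sc.2 z hz g h1))) inf_le_left)
    have h6 := (mem_cent.mp (h4 ⟨mul_mem hc.1 hg, cj_eq_iff.mp (by rw [cj_mul, e])⟩)).eq
    refine h2 ((mul_inv_cancel_right _ c).symm.trans ?_)
    rw [← (mem_cent.mp hc.2).eq, show c * (g * z * g⁻¹) * c⁻¹ = c * g * z * (c * g)⁻¹ by group, h6, mul_inv_cancel_right]
  have hwK : w ∈ K := Transfer.resOf_le K
    ((resOf_sup_of_isPGroup h.syl.isPGroup le_normalizer_of_normal).le (mem_resOf hw.1 ho))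
  intro x hx
  obtain ⟨y, e⟩ := MonoidHom.FixedPointFree.commutatorMap_surjective (φ := P.normalizerMonoidHom ⟨w, hw.2⟩)
    (fun y hy => by
      by_contra y1
      obtain ⟨v, hv, hv2, -⟩ := exists_central (h.syl.isPGroup.to_le (zpowers_le.mpr y.2)) (by simpa using y1)
      have h4 : w ∈ 𝐂[v] := by
        obtain ⟨i, rfl⟩ := hv
        exact mem_cent.mpr (Commute.zpow_right (mul_inv_eq_iff_eq_mul.mp (congrArg Subtype.val hy)) i)
      exact h3 (mem_cent.mpr ((h.nil v hv2).mem_centralizer (h.syl.isPGroup.to_le h.sc.1)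
        (fun a ha => mem_cent.mpr (h.cen ha v (zpowers_le.mpr y.2 hv)).symm) (mem_resOf h4 ho) (h.norm_le hw.2) z hz).symm))
    ⟨x, hx⟩
  have := mul_mem (Normal.conj_mem ‹_› w hwK y) (inv_mem hwK)
  rwa [show x = y * w * (y : G)⁻¹ * w⁻¹ by simpa [MonoidHom.commutatorMap, div_eq_mul_inv, mul_assoc] using congrArg Subtype.val e.symm]

omit hn in
theorem inf_ne (hZ : ∀ z ∈ P ⊓ 𝐂(P), z ^ 2 = 1 → z ∈ A) (K : Subgroup G) [K.Normal] (h0 : K ≠ ⊥) : A ⊓ K ≠ ⊥ := by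
  obtain ⟨y, h1, h3, -⟩ := exists_central (h.syl.isPGroup.to_le (inf_le_left.trans inf_le_left))
    (Amalg.inf_center_ne_bot h.syl.isPGroup (inf_le_left (b := K)) (norm_inf le_normalizer le_normalizer_of_normal)
      fun e => h0 (eq_bot_of_pPrimeCore_eq_bot hO ((Nat.prime_two.coprime_iff_not_dvd.mpr
        ((h.syl.inf_of_le (N := K) le_normalizer_of_normal le_top).eq_bot_iff.mp e)).symm)))
  exact fun e => ne_one_of_two h3 (mem_bot.mp (e ▸ ⟨hZ y ⟨h1.1.1, h1.2⟩ (sq_of_two h3), h1.1.2⟩))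

omit h hO in
theorem not_comm : ¬ IsMulCommutative G := fun _ => hn inferInstance

omit hO in
theorem not_comm' [IsSimpleGroup G]
    (hd : ¬ ((∀ x ∈ P, x * x = 1) ∧ ∀ x ∈ P, ∀ y ∈ P, x ≠ 1 → y ≠ 1 → IsConj x y)) : ¬ IsMulCommutative P := fun hc => by
  have g := Wal.gd_of_comm (not_comm hn) (syl_iff_sylowIn.mpr h.syl) hc
  have h1 := fun x hx => g.el x (GW.Two.of_mem h.syl.isPGroup hx)
  exact hd ⟨h1, fun x hx y hy x1 y1 => g.one x y (two_of_mul_self (h1 x hx) x1) (two_of_mul_self (h1 y hy) y1)⟩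

omit hn in
theorem exists_ro (hH : IsStronglyEmbedded H) (hP : P ≤ H) :
    ∃ t, RO H P t ∧ H.normalCore = ⊥ ∧ R2 (⊤ : Subgroup G) := by
  obtain ⟨Q, t, r⟩ := bender_ro hH (r2_of_se hH hO) hO
  obtain rfl := h.syl.eq_of_le (r.good (r.core_eq_bot hO) (r2_of_se hH hO)).two (r.le_Q_of_isPGroup h.syl.isPGroup hP) le_top
  exact ⟨t, r, r.core_eq_bot hO, r2_of_se hH hO⟩

end GS
end

theorem GS.ti (n : ℕ) : ∀ {G : Type u} [Group G] [Finite G] {P A : Subgroup G}, Nat.card G = n → GS 2 P A →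
    pPrimeCore 2 G = ⊥ → ¬ P.Normal → (∀ z ∈ P ⊓ 𝐂(P), z ^ 2 = 1 → z ∈ A) →
    ¬ ((∀ x ∈ P, x * x = 1) ∧ ∀ x ∈ P, ∀ y ∈ P, x ≠ 1 → y ≠ 1 → IsConj x y) →
    ∀ y ∈ P, y ≠ 1 → ∀ g, g * y * g⁻¹ ∈ P → g ∈ 𝐍(P) := by
  induction n using Nat.strong_induction_on with
  | _ n ih =>
  intro G _ _ P A hn h hO hP hZ hd y hy y1 g hg
  by_cases hs : IsSimpleGroup G
  · obtain ⟨H, hH⟩ := (Gsm.goldschmidt (syl_iff_sylowIn.mpr h.syl) h.ne (le_centralizer_iff_isMulCommutative.mp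
      (h.cen.trans (centralizer_le h.sc.1))) h.sc).resolve_left (h.not_comm' hP hd)
    obtain ⟨S, hS⟩ := se_exists_sylow_le hH
    obtain ⟨c, -, e⟩ := (sylowIn_top S).exists_cj_eq h.syl
    have h1 : P ≤ cj c H := e ▸ cj_mono c hS
    obtain ⟨t, r, -⟩ := h.exists_ro hO (se_conj hH c) h1
    exact r.norm (r.mem_of_conj_mem hy y1 (h1 hg))
  · obtain ⟨K, _, K0, K1⟩ : ∃ K : Subgroup G, K.Normal ∧ K ≠ ⊥ ∧ K ≠ ⊤ := by
      by_contra! e
      exact hs { exists_pair_ne := ⟨y, 1, y1⟩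
                 eq_bot_or_eq_top_of_normal := fun K hK => or_iff_not_imp_left.mpr (e K hK) }
    have h0 := h.inf_ne hO hZ K K0
    have hK := h.le_normal hO hP K h0
    obtain ⟨k, hk, m, hm, rfl⟩ := (h.syl.mono hK le_top).frattini (H := ⊤) le_normalizer_of_normal (mem_top g)
    have h1 := Transfer.conj_mem_of_mem_normalizer hm hy
    have h2 := ih _ (hn ▸ Core.card_lt_of_ne_top K1) rfl (h.sub K h0) (pPrimeCore_eq_bot_of_normal hO K)
      (fun e => hP (h.normal_of_normal hO K h0 e))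
      (fun z hz e => hZ z ⟨hz.1, fun x hx => congrArg Subtype.val (hz.2 ⟨x, hK hx⟩ hx)⟩ (congrArg Subtype.val e))
      (fun e => hd ⟨fun x hx => congrArg Subtype.val (e.1 ⟨x, hK hx⟩ hx), fun x hx y hy x1 y1 =>
        K.subtype.map_isConj (e.2 ⟨x, hK hx⟩ hx ⟨y, hK hy⟩ hy (by simpa using x1) (by simpa using y1))⟩)
      ⟨_, hK h1⟩ h1 (by simpa using y1) ⟨k, hk⟩ (by simpa [mem_subgroupOf, mul_assoc] using hg)
    exact mul_mem (mem_normalizer_of_cj_le (cj_le_iff.mpr fun x hx =>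
      Transfer.conj_mem_of_mem_normalizer h2 (x := ⟨x, hK hx⟩) hx)) hm

theorem GS.suzuki {G : Type u} [Group G] [Finite G] {P A : Subgroup G} (h : GS 2 P A) (hO : pPrimeCore 2 G = ⊥)
    (hn : ¬ P.Normal) (hZ : ∀ z ∈ P ⊓ 𝐂(P), z ^ 2 = 1 → z ∈ A)
    (hd : ¬ ((∀ x ∈ P, x * x = 1) ∧ ∀ x ∈ P, ∀ y ∈ P, x ≠ 1 → y ≠ 1 → IsConj x y)) : Lie.IsoSuzuki G := by
  have h1 : ∀ u ∈ 𝐍(P), orderOf u = 2 → u ∈ P := fun u hu h2 => (h.syl.mono le_normalizer le_top).eq_of_le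
    (isPGroup_sup_zpowers (k := 1) h.syl.isPGroup (by rw [pow_one, sq_of_two h2]) hu) le_sup_left
    (sup_le le_normalizer (zpowers_le.mpr hu)) ▸ mem_sup_right (mem_zpowers u)
  obtain ⟨a, ha, a1⟩ := (bot_or_exists_ne_one A).resolve_left h.ne
  obtain ⟨t, r, hf, h2⟩ := h.exists_ro hO (stronglyEmbedded_iff.mpr ⟨fun e => hn (normalizer_eq_top_iff.mp e),
    even_card_of_two_mem (h.ord ha a1) (le_normalizer (h.sc.1 ha)), fun u g hu h3 h4 => GS.ti _ rfl h hO hn hZ hd u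
      (h1 u h3 hu) (ne_one_of_two hu) g (h1 _ h4 ((orderOf_conj g u).trans hu))⟩) le_normalizer
  have hV : Vg 𝐍(P) t = ⊥ := eq_bot_iff.mpr fun v hv => hf ▸ r.mem_normalCore_iff.mpr ⟨hv.1, fun y hy => by
    obtain ⟨s, w, hs⟩ := r.exists_SE
    exact ((h.nil s hs.two).mem_centralizer h.syl.isPGroup (fun x hx => mem_cent.mpr
      (r.commute_two h2 hs.two (r.le (Q0g_le _ (r.s_mem_Q0 hs))) hx).symm) (mem_resOf (mem_cent.mpr (r.commute_V hs hv).1)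
        (Nat.coprime_two_right.mpr (r.odd_D hv.1))) hv.1.1 y hy).symm⟩
  have h3 : 𝐍(P) ≤ P ⊔ zpowers t := r.sup.ge.trans (sup_le le_sup_left (r.sup_KV.ge.trans (by
    rw [hV, sup_bot_eq]; exact r.K_le_sup h2)))
  haveI := r.simple h2 hf (eq_top_iff.mpr fun g _ => by
    by_cases hg : g ∈ 𝐍(P)
    · exact h3 hg
    · obtain ⟨x, hx, y, hy, rfl⟩ := r.bruhat g hg
      exact mul_mem (mul_mem (h3 hx) (mem_sup_right (mem_zpowers t))) (h3 hy))
  exact RO.suz r h2 hf hV (h.not_comm' hn hd)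

end Cfsg.Lib.GSz
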