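import Cfsg.Agent.Lib.Hall.FC6
import Cfsg.Agent.Lib.Transfer.NPCAux
import Cfsg.Agent.Lib.BS.Defs
import Cfsg.Prelude.Def_TwoFusion

/-! Fusion modulo a strongly closed subgroup; strongly closed quaternion subgroups. -/

set_option autoImplicit false
set_option linter.unusedSectionVars false

namespace Cfsg.Lib.SCQ

open Subgroup Cfsg.Lib.Transfer Cfsg.Lib.BG1 Cfsg.Lib.Invol Cfsg.Lib.Coprime Cfsg.Lib.BS
open scoped commutatorElement

variable {G : Type*} [Group G] [Finite G] {S T : Subgroup G}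

instance : Fact (Nat.Prime 2) := fact_two

theorem eq_one_of_conj {w x s : G} (hw : Odd (orderOf w)) (e : w * x * w⁻¹ = s * x) (hc : Commute w s) {k : ℕ}
    (hs : s ^ 2 ^ k = 1) : s = 1 := by
  have h4 : ∀ j : ℕ, w ^ j * x * (w ^ j)⁻¹ = s ^ j * x := fun j => by
    induction j with
    | zero => simp
    | succ j ih =>
      rw [show w ^ (j + 1) * x * (w ^ (j + 1))⁻¹ = w * (w ^ j * x * (w ^ j)⁻¹) * w⁻¹ by rw [pow_succ']; group, ih, ← conj_mul,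
        (hc.pow_right j).eq, mul_inv_cancel_right, e, pow_succ, mul_assoc]
  have h5 := h4 (orderOf w)
  rw [pow_orderOf_eq_one, one_mul, inv_one, mul_one, eq_comm, mul_eq_right, ← orderOf_dvd_iff_pow_eq_one] at h5
  exact orderOf_eq_one_iff.mp (Nat.eq_one_of_dvd_coprimes ((Nat.coprime_two_right.mpr hw).pow_right k) h5
    (orderOf_dvd_iff_pow_eq_one.mpr hs))

theorem norm_of_le (h : IsStronglyClosed S T) {D : Subgroup G} (hD : D ≤ T) : 𝐍(D) ≤ 𝐍(D ⊓ S) := fun g hg =>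
  mem_norm_of fun x hx => ⟨conj_mem_of_mem_normalizer hg hx.1, h.2 x hx.2 g (hD (conj_mem_of_mem_normalizer hg hx.1))⟩

theorem le_norm (h : IsStronglyClosed S T) : T ≤ 𝐍(S) := fun g hg =>
  mem_norm_of fun x hx => h.2 x hx g (mul_mem (mul_mem hg (h.1 hx)) (inv_mem hg))

/-- fusion modulo a strongly closed subgroup `S` is controlled by its normalizer; if `S` has a unique involution,
its centralizer is strongly closed -/
theorem fus (hT : SylowIn 2 T ⊤) (h : IsStronglyClosed S T) {x g : G} (hx : x ∈ T) (hg : g * x * g⁻¹ ∈ T) :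
    (∃ n ∈ 𝐍(S), g * x * g⁻¹ * (n * x * n⁻¹)⁻¹ ∈ S) ∧
      ((∀ s ∈ S, ∀ t ∈ S, orderOf s = 2 → orderOf t = 2 → s = t) → x ∈ 𝐂(S) → g * x * g⁻¹ ∈ 𝐂(S)) := by
  have key := hT.alperin_induction (fun D g => (∃ n ∈ 𝐍(S), ∀ x ∈ D, g * x * g⁻¹ * (n * x * n⁻¹)⁻¹ ∈ S) ∧
      ((∀ s ∈ S, ∀ t ∈ S, orderOf s = 2 → orderOf t = 2 → s = t) → ∀ x ∈ D, x ∈ 𝐂(S) → g * x * g⁻¹ ∈ 𝐂(S)))
    (fun D E g ⟨⟨n, h1, h2⟩, h3⟩ e => ⟨⟨n, h1, fun x hx => h2 x (e hx)⟩, fun u x hx => h3 u x (e hx)⟩) ?comp ?loc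
    (zpowers x) (zpowers_le.2 hx) g trivial (cj_zpowers_le.2 hg)
  case comp =>
    rintro D g k - - ⟨⟨n, h1, h2⟩, h3⟩ ⟨⟨m, h4, h5⟩, h6⟩
    refine ⟨⟨m * n, mul_mem h4 h1, fun x hx => ?_⟩, fun u x hx e => ?_⟩
    · convert mul_mem (h5 _ (conj_mem_cj.2 hx)) (conj_mem_of_mem_normalizer h4 (h2 x hx)) using 1
      group
    · convert h6 u _ (conj_mem_cj.2 hx) (h3 u x hx e) using 1
      group
  case loc =>
    intro D hD h1 ih n hn
    have hN := norm_of_le h hD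
    by_cases e : S ≤ D
    · rw [inf_eq_right.2 e] at hN
      exact ⟨⟨n, hN hn.2, fun x _ => by simp⟩, fun _ x _ hx => conj_mem_of_mem_normalizer (norm_cent hN hn.2) hx⟩
    let K := 𝐍(D) ⊓ stabMod D (D ⊓ S)
    have hK : ∀ k ∈ K, ∀ x ∈ D, k * x * k⁻¹ * x⁻¹ ∈ D ⊓ S := fun k hk x hx => by
      simpa [commutatorElement_def, mul_assoc] using inv_mem (hk.2.2 x hx)
    have h2 : ⊤ ⊓ 𝐍(D) ≤ 𝐍(K) := inf_le_right.trans fun a ha => mem_norm_of fun k hk => ⟨conj_mem_of_mem_normalizer (le_normalizer ha) hk.1,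
      hN (mul_mem (mul_mem ha hk.1) (inv_mem ha)), fun v hv => by
        convert conj_mem_of_mem_normalizer (hN ha) (hk.2.2 _ (conj_mem_of_mem_normalizer (inv_mem ha) hv)) using 1
        simp only [commutatorElement_def]; group⟩
    have h3 := h1.inf_of_le h2 fun k hk => ⟨trivial, hk.1⟩
    obtain ⟨l, hl, m, hm, rfl⟩ := h3.frattini h2 hn
    obtain ⟨w, hw, u, hu, rfl⟩ := h3.exists_resOf_mul hl
    have hw' := resOf_le K hw
    have h4 : u * m ∈ 𝐍(D) := (mul_mem_cancel_left (mem_inf.1 hw').1).1 (mul_assoc w u m ▸ hn.2)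
    obtain ⟨y, hy, h5⟩ := SetLike.exists_of_lt (lt_inf_normalizer (hT.2.to_le (sup_le h.1 hD))
      (le_sup_right.lt_of_ne fun e' => e (le_sup_left.trans e'.ge) : D < S ⊔ D))
    obtain ⟨s, hs, d, hd, rfl⟩ := (mem_sup_iff_of_le_normalizer (hD.trans (le_norm h))).1 hy.1
    have h6 : s ∈ 𝐍(D) := (mul_mem_cancel_right (le_normalizer hd)).1 hy.2
    have h7 : s ∈ T ⊓ 𝐍(D) ⊓ K := ⟨⟨h.1 hs, h6⟩, h6, hN h6, fun v hv => mem_inf.2 ⟨by
      simpa [commutatorElement_def, mul_assoc] using mul_mem hv (conj_mem_of_mem_normalizer h6 (inv_mem hv)),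
      mul_mem (conj_mem_of_mem_normalizer (le_norm h (hD hv)) hs) (inv_mem hs)⟩⟩
    have h8 : D ⊔ (T ⊓ 𝐍(D) ⊓ K) ≤ T := sup_le hD (inf_le_left.trans inf_le_left)
    obtain ⟨⟨n, h9, h10⟩, h11⟩ := ih _ h8 (u * m) trivial ((cj_eq_of_mem_normalizer (norm_sup (A := zpowers (u * m))
      (zpowers_le.2 h4) (zpowers_le.2 (mul_mem (le_normalizer hu) hm)) (mem_zpowers _))).le.trans h8)
      (card_lt_of_lt (le_sup_left.lt_of_ne fun e' => h5 (mul_mem (e'.ge (mem_sup_right h7)) hd)))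
    refine ⟨⟨n, h9, fun x hx => ?_⟩, fun hu x hx e => ?_⟩
    · convert mul_mem (mem_inf.1 (hK w hw' _ (conj_mem_of_mem_normalizer h4 hx))).2 (h10 x (mem_sup_left hx)) using 1
      group
    have h12 : resOf 2 K ≤ 𝐂(D ⊓ 𝐂(S)) := resOf_le_iff.2 fun w hw ho x hx => by
      have ho' := Nat.coprime_two_right.1 ho
      have a1 := hK w hw x hx.1
      have a2 : w * x * w⁻¹ * x⁻¹ ∈ 𝐂(D ⊓ S) := mul_mem (conj_mem_of_mem_normalizer (norm_cent hN hw.1)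
        (centralizer_le inf_le_right hx.2)) (inv_mem (centralizer_le inf_le_right hx.2))
      have a3 : IsPGroup 2 ↥(D ⊓ S ⊓ 𝐂(D ⊓ S)) := hT.2.to_le (inf_le_left.trans (inf_le_left.trans hD))
      have a4 := Block2.mem_centralizer_of_fix_involutions a3 (fun a ha b hb => hb.2 a ha.1)
        (norm_inf hN (norm_cent hN) hw.1) ho' (by rw [pow_orderOf_eq_one]; exact one_mem _) fun z hz h2 => by
          by_cases z1 : z = 1
          · simp [z1]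
          have z2 := two_of_mul_self (by rwa [sq] at h2) z1
          exact hu _ (conj_mem_of_mem_normalizer (hN hw.1) hz.1).2 _ hz.1.2 ((orderOf_conj w z).trans z2) z2
      obtain ⟨k, hk⟩ := a3 ⟨_, a1, a2⟩
      have := eq_one_of_conj ho' (inv_mul_cancel_right _ x).symm (a4 _ ⟨a1, a2⟩).symm (congrArg Subtype.val hk)
      exact (mul_inv_eq_iff_eq_mul.1 (mul_inv_eq_one.1 this)).symm
    have h13 := h11 hu x (mem_sup_left hx) e
    rwa [show w * u * m * x * (w * u * m)⁻¹ = w * (u * m * x * (u * m)⁻¹) * w⁻¹ by group,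
      ← h12 hw _ ⟨conj_mem_of_mem_normalizer h4 hx, h13⟩, mul_inv_cancel_right]
  exact ⟨key.1.imp fun n hn => ⟨hn.1, hn.2 x (mem_zpowers x)⟩, fun u => key.2 u x (mem_zpowers x)⟩

/-- transfer: if `S` generates `G` as a normal subgroup, `T` lies in any `R ≥ S` controlling fusion modulo itself -/
theorem le_of_fus (hT : SylowIn 2 T ⊤) (h : IsStronglyClosed S T) (hg : normalClosure (S : Set G) = ⊤) {R : Subgroup G}
    (h1 : S ≤ R) (hR : T ≤ 𝐍(R)) (h2 : ∀ x ∈ T, ∀ k, k * x * k⁻¹ ∈ T → ∃ u ∈ T, (u * x * u⁻¹)⁻¹ * (k * x * k⁻¹) ∈ R) :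
    T ≤ R := fun t ht => by
  haveI := resOf_normal (p := 2) (⊤ : Subgroup G)
  haveI : (resOf 2 ⊤ ⊔ S).Normal := normalizer_eq_top_iff.1 (eq_top_iff.2 (hT.resOf_sup.ge.trans
    (sup_le (le_sup_left.trans le_normalizer) (norm_sup le_normalizer_of_normal (le_norm h)))))
  obtain ⟨w, hw, s, hs, rfl⟩ := (mem_sup_iff_of_le_normalizer le_normalizer_of_normal).1
    (normalClosure_le_normal (N := resOf 2 ⊤ ⊔ S) (fun x hx => mem_sup_right hx) (hg.ge (mem_top t)))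
  exact mul_mem (hT.inf_resOf_le hR (fun x hx k _ => h2 x hx.1 k) ⟨(mul_mem_cancel_right (h.1 hs)).1 ht, hw⟩) (h1 hs)

open Block2 in
theorem q8_aux : ∀ u v u' v' : QuaternionGroup 2, u * u ≠ 1 → v * v ≠ 1 → v ≠ u → v ≠ u⁻¹ →
    u' * u' ≠ 1 → v' * v' ≠ 1 → v' ≠ u' → v' ≠ u'⁻¹ → (∀ x, (quatMap u v)^[4] x = x) → (∀ x, (quatMap u' v')^[4] x = x) →
    (∀ x, (quatMap u v ∘ quatMap u' v')^[4] x = x) → (∃ s, ∀ x, quatMap u v x = s * x * s⁻¹) ∨
      (∃ s, ∀ x, quatMap u' v' x = s * x * s⁻¹) ∨ ∃ s, ∀ x, quatMap u v (quatMap u' v' x) = s * x * s⁻¹ := by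
  decide +kernel

theorem q8_index (hT : IsPGroup 2 T) (hn : T ≤ 𝐍(S)) (e : S ≃* QuaternionGroup 2) {a b : G} (ha : a ∈ T) (hb : b ∈ T) :
    a ∈ S ⊔ 𝐂(S) ∨ b ∈ S ⊔ 𝐂(S) ∨ a * b ∈ S ⊔ 𝐂(S) := by
  let φ := (MulAut.congr e).toMonoidHom.comp (S.normalizerMonoidHom.comp (inclusion hn))
  have h4 : ∀ (t : T) x, (φ t)^[4] x = x := fun t x => by
    change (φ t ^ 4) x = x
    rcases Hall.quat_aut_cases (φ t) with h | h
    · obtain ⟨k, hk⟩ := hT t
      rw [orderOf_eq_one_iff.mp (Nat.eq_one_of_dvd_coprimes ((by norm_num : Nat.Coprime 3 2).pow_right k)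
        (orderOf_dvd_of_pow_eq_one h) (orderOf_dvd_of_pow_eq_one (by rw [← map_pow, hk, map_one]))), one_pow]; rfl
    · rw [h]; rfl
  have hi : ∀ t : T, (∃ s, ∀ x, φ t x = s * x * s⁻¹) → (t : G) ∈ S ⊔ 𝐂(S) := fun t ⟨s, hs⟩ => by
    rw [← mul_inv_cancel_left (e.symm s : G) t]
    refine mul_mem (mem_sup_left (e.symm s).2) (mem_sup_right fun x hx => ?_)
    have := congrArg (fun y => (e.symm y : G)) (hs (e ⟨x, hx⟩))
    simp only [φ, MonoidHom.comp_apply, MulEquiv.coe_toMonoidHom, MulAut.congr_apply, MulEquiv.trans_apply,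
      MulEquiv.symm_apply_apply, map_mul, map_inv, coe_mul, coe_inv] at this
    change (t : G) * x * (t : G)⁻¹ = _ at this
    rw [mul_assoc, mul_inv_eq_iff_eq_mul.1 this]
    group
  obtain ⟨a1, a2, a3, a4⟩ := Hall.quat_aut_gens (φ ⟨a, ha⟩)
  obtain ⟨b1, b2, b3, b4⟩ := Hall.quat_aut_gens (φ ⟨b, hb⟩)
  have := q8_aux _ _ _ _ a1 a2 a3 a4 b1 b2 b3 b4
  simp only [← funext (Block2.quat_aut_eq _)] at this
  refine (this (h4 _) (h4 _) (by simpa only [map_mul, MulAut.coe_mul] using h4 (⟨a, ha⟩ * ⟨b, hb⟩))).imp (hi _)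
    (Or.imp (hi _) fun h => hi (⟨a, ha⟩ * ⟨b, hb⟩) (by simpa only [map_mul, MulAut.mul_apply] using h))

theorem le_sup_cent (hT : SylowIn 2 T ⊤) (h : IsStronglyClosed S T) (hg : normalClosure (S : Set G) = ⊤) {a x : G} {n : ℕ}
    (hq : Block.QuatData S a x (2 ^ (n + 1))) : T ≤ S ⊔ 𝐂(S) := by
  have hM : 𝐍(S) ≤ 𝐍(S ⊔ 𝐂(S)) := norm_sup le_rfl (norm_cent le_rfl)
  refine le_of_fus hT h hg le_sup_left ((le_norm h).trans hM) fun y hy k hk => ?_
  obtain ⟨m, hm, e⟩ := (fus hT h hy hk).1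
  have h1 : m * y * m⁻¹ ∈ T := inv_mem_iff.1 ((mul_mem_cancel_left hk).1 (h.1 e))
  suffices ∃ u ∈ T, (u * y * u⁻¹)⁻¹ * (m * y * m⁻¹) ∈ S ⊔ 𝐂(S) by
    obtain ⟨u, hu, h2⟩ := this
    refine ⟨u, hu, ?_⟩
    convert mul_mem h2 (mem_sup_left (conj_mem_of_mem_normalizer (le_norm h (inv_mem h1)) e)) using 1
    group
  by_cases hr : resOf 2 𝐍(S) ≤ 𝐂(S)
  · obtain ⟨w, hw, u, hu, rfl⟩ := (hT.mono (le_norm h) le_top).exists_resOf_mul hm
    refine ⟨u, hu, mem_sup_right ?_⟩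
    convert mul_mem (conj_mem_of_mem_normalizer (norm_cent (le_norm h) (inv_mem (mul_mem (mul_mem hu hy) (inv_mem hu)))) (hr hw))
      (inv_mem (hr hw)) using 1
    group
  rw [resOf_le_iff] at hr
  push Not at hr
  obtain ⟨w, hw, ho, hc⟩ := hr
  have h2 : 2 ^ (n + 1) = 2 := by
    obtain ⟨j, e | e⟩ := (hq.mem _).1 (conj_mem_of_mem_normalizer hw hq.a_mem)
    · exact absurd (Hall.quatData_cent hq (hT.2.to_le h.1) hw (Nat.coprime_two_right.1 ho) (e ▸ zpow_mem_zpowers a j)) hc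
    · have := hq.orderOf_refl (by positivity) j
      rw [← e, orderOf_conj, hq.ord] at this
      omega
  obtain ⟨f⟩ := (h2 ▸ hq).nonempty_mulEquiv
  refine ⟨1, one_mem _, ?_⟩
  rw [one_mul, inv_one, mul_one]
  rcases q8_index hT.2 (le_norm h) f (inv_mem hy) h1 with e | e | e
  · exact mul_mem e (conj_mem_of_mem_normalizer (hM hm) (inv_mem_iff.1 e))
  · exact mul_mem (inv_mem (by simpa [mul_assoc] using conj_mem_of_mem_normalizer (inv_mem (hM hm)) e)) e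
  · exact e

end Cfsg.Lib.SCQ
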