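import Cfsg.Agent.Lib.ZD.Z6
import Cfsg.Agent.Lib.Layer.FStar

/-! Product disconnection: tightly embedded subgroups. -/

set_option autoImplicit false
set_option linter.unusedSectionVars false

namespace Cfsg.Lib.ZD

open Subgroup MulAction Cfsg.Lib.Core Cfsg.Lib.Amalg Cfsg.Lib.BG1 Cfsg.Lib.Invol Cfsg.Lib.BS

universe u
variable {G : Type u} [Group G] [Finite G] {Q : Subgroup G}

theorem te_fus (hodd : ∀ g : G, g ∉ 𝐍(Q) → Odd (Nat.card ↥(cj g Q ⊓ 𝐍(Q)))) {t g : G} (ht : orderOf t = 2) (h1 : t ∈ Q)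
    (h2 : g * t * g⁻¹ ∈ 𝐍(Q)) : g ∈ 𝐍(Q) := Classical.by_contradiction fun e =>
  Nat.not_even_iff_odd.mpr (hodd g e) (even_card_of_two_mem ((orderOf_conj g t).trans ht) ⟨conj_mem_cj g h1, h2⟩)

theorem te_cent (hodd : ∀ g : G, g ∉ 𝐍(Q) → Odd (Nat.card ↥(cj g Q ⊓ 𝐍(Q)))) {t : G} (ht : orderOf t = 2) (h1 : t ∈ Q) :
    𝐂[t] ≤ 𝐍(Q) := fun g hg => te_fus hodd ht h1 (by rw [(mem_cent1.mp hg).eq, mul_inv_cancel_right]; exact le_normalizer h1)

theorem te_zc (hQ : Even (Nat.card Q)) (hodd : ∀ g : G, g ∉ 𝐍(Q) → Odd (Nat.card ↥(cj g Q ⊓ 𝐍(Q)))) (hN : ¬ Q.Normal) :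
    ∃ z ∈ Q, ZC 𝐍(Q) z ∧ ∀ g : G, Commute z (g * z * g⁻¹) → g * z * g⁻¹ ≠ z → 𝐂[z * (g * z * g⁻¹)] ≤ 𝐍(Q) := by
  haveI := fact_two
  obtain ⟨S, hS⟩ := exists_syl 2 𝐍(Q)
  obtain ⟨z, h1, h2, h3⟩ := exists_two_cent hS.isPGroup (inf_le_left (b := Q)) (le_normalizer_inf le_normalizer hS.le)
    ((hS.inf_normal le_normalizer le_rfl).ne_bot hQ.two_dvd)
  refine ⟨z, h1.2, ⟨h2, le_normalizer h1.2, fun e => hN (normalizer_eq_top_iff.mp e), ⟨S, hS.of_normalizer_le le_top fun g hg =>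
    te_fus hodd h2 h1.2 (hS.le (conj_mem_of_mem_normalizer hg.2 h1.1)), h3⟩, fun g => te_fus hodd h2 h1.2⟩, fun g h4 h5 =>
    te_cent hodd (two_mul_of_commute h2 ((orderOf_conj g z).trans h2) h5.symm h4) (mul_mem h1.2 (conj_mem_of_mem_normalizer
      (te_fus hodd h2 h1.2 (te_cent hodd h2 h1.2 (mem_cent1.mpr h4.symm))) h1.2))⟩

theorem fstar_le_of_simple (hF : IsSimpleGroup ↥(generalizedFittingSubgroup G)) {X : Subgroup G} [X.Normal] (hX : X ≠ ⊥) :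
    generalizedFittingSubgroup G ≤ X := by
  haveI := Layer.fstar_normal (G := G)
  refine subgroupOf_eq_top.mp ((inferInstance : (X.subgroupOf (generalizedFittingSubgroup G)).Normal).eq_bot_or_eq_top.resolve_left
    fun e => hX ?_)
  have h1 := subgroupOf_eq_bot.mp e
  exact h1.eq_bot_of_le (Layer.centralizer_fstar_le.trans' fun x hx y hy =>
    (commute_of_normal_of_disjoint _ _ inferInstance inferInstance h1 x y hx hy).symm.eq)

theorem te_fstar (hE : EG.{u}) (hF : IsSimpleGroup ↥(generalizedFittingSubgroup G))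
    (hF' : ¬ IsMulCommutative ↥(generalizedFittingSubgroup G)) (hQ : Even (Nat.card Q))
    (hodd : ∀ g : G, g ∉ 𝐍(Q) → Odd (Nat.card ↥(cj g Q ⊓ 𝐍(Q)))) (hN : ¬ Q.Normal) :
    Cfsg.IsStronglyEmbedded (𝐍(Q).subgroupOf (generalizedFittingSubgroup G)) := by
  haveI := fact_two
  haveI := Layer.fstar_normal (G := G)
  obtain ⟨z, hz, h, hp⟩ := te_zc hQ hodd hN
  have hA := h.za hp
  haveI := hA.ZL_normal
  have hev : Even (Nat.card (generalizedFittingSubgroup G)) := Nat.not_odd_iff_even.mp fun e =>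
    hF' ⟨⟨IsSimpleGroup.comm_iff_isSolvable.mpr (solvable_of_odd e)⟩⟩
  have hL := fstar_le_of_simple hF (X := ZL (conjugatesOf z) ⊤) fun e => h.not_le hp (e ▸ bot_le)
  have hk : 𝐍(Q).normalCore = ⊥ := Classical.by_contradiction fun e => by
    have h1 := fstar_le_of_simple hF e
    have h2 : 𝐎'[2](𝐍(Q).normalCore) = ⊥ := Classical.by_contradiction fun e' => by
      haveI : (𝐎'[2](𝐍(Q).normalCore)).Normal := normalizer_eq_top_iff.mp (eq_top_iff.mpr (le_norm_piCoreOf _ le_normalizer_of_normal))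
      exact Nat.not_even_iff_odd.mpr ((odd_O2 _).of_dvd_nat (card_dvd_of_le (fstar_le_of_simple hF e'))) hev
    have h3 : ZL (conjugatesOf z) ⊤ ≤ 𝐂(generalizedFittingSubgroup G) := (closure_le _).mpr fun x hx y hy => by
      have := hA.comm_ker (N := 𝐍(Q).normalCore) (fun v hv d => by
        obtain ⟨g, rfl⟩ := QuotientGroup.mk_surjective d
        exact fix_coset.mpr (by simpa using hv g⁻¹)) hx.1 (h1 hy)
      rw [h2, mem_bot, mul_inv_eq_one, mul_inv_eq_iff_eq_mul] at this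
      exact this.symm
    exact hF' ⟨⟨fun x y => Subtype.ext (h3 (hL y.2) x x.2)⟩⟩
  obtain ⟨S, hS, h1⟩ := h.ctr
  obtain ⟨t, h2, h3⟩ := exists_two_mem_of_even (even_iff_two_dvd.mpr (dvd_card_of_isPGroup_ne_bot (hS.isPGroup.to_inf_left)
    ((hS.inf_normal_top _).ne_bot hev.two_dvd)))
  refine h.se hE hp (fun e => ?_) h3 h2.2 (te_cent hodd h.two hz (mem_cent1.mpr (h1 t h2.1)))
    fun u hu h4 => ⟨hL hu, fun e => ne_one_of_two h4 (mem_bot.mp (hk.le e))⟩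
  exact ne_one_of_two h3 (mem_bot.mp (hk.le (normal_le_normalCore.mpr e h2.2)))

end Cfsg.Lib.ZD
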