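import Cfsg.Agent.Lib.ZD.Final
import Cfsg.Agent.Lib.ZD.Z7

/-! Rank one groups: the module `Q/Q₀` is irreducible and carries no invariant bilinear form. -/

set_option autoImplicit false
set_option linter.unusedSectionVars false

namespace Cfsg.Lib.BS

open Subgroup MulAction Cfsg.Lib.Core Cfsg.Lib.Amalg Cfsg.Lib.BG1 Cfsg.Lib.Invol
open scoped commutatorElement IsMulCommutative

universe u
variable {G : Type u} [Group G] [Finite G] {H Q : Subgroup G} {t : G}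

theorem form_zero {E M : Type*} [Field E] [AddCommGroup M] (B : E →+ E →+ M) {a b : E} (ha : a ≠ 0) (hb : b ≠ 0)
    (hd : a * a + a * b + b * b ≠ 0) (h1 : ∀ x y, B (a * x) (a * y) = B x y) (h2 : ∀ x y, B (b * x) (b * y) = B x y)
    (h3 : ∀ x y, B ((a + b) * x) ((a + b) * y) = B x y) (x y : E) : B x y = 0 := by
  obtain ⟨y, rfl⟩ : ∃ z, y = z + a⁻¹ * b * z + b⁻¹ * a * z := by
    obtain ⟨w, rfl⟩ : ∃ w, y = (a * a + a * b + b * b) * w := ⟨_, (mul_inv_cancel_left₀ hd y).symm⟩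
    exact ⟨a * b * w, by field_simp; ring⟩
  have e := h3 x y
  simp only [add_mul, map_add, AddMonoidHom.add_apply, h1, h2] at e
  rw [show b * y = a * (a⁻¹ * b * y) by field_simp, h1, show a * y = b * (b⁻¹ * a * y) by field_simp, h2] at e
  simp only [map_add]
  exact add_right_cancel (b := B x y) (by rw [zero_add]; nth_rw 3 [← e]; abel)

theorem Sec.comap {X F : Type*} [Group X] [Finite X] [Field F] {K A B : Subgroup G} {π χ : G → F} (h : Sec K A B π χ)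
    {f : X →* G} (hK : K ≤ f.range) (hA : A ≤ f.range) : Sec (K.comap f) (A.comap f) (B.comap f) (π ∘ f) (χ ∘ f) where
  le := comap_mono h.le
  norm := fun k hk => mem_norm_of fun x hx => by
    simpa using conj_mem_of_mem_normalizer (h.norm hk) hx
  add := fun x hx y hy => by simpa using h.add _ hx _ hy
  ker := fun x hx => h.ker _ hx
  surj := fun c => by
    obtain ⟨x, hx, e⟩ := h.surj c
    obtain ⟨x, rfl⟩ := hA hx
    exact ⟨x, hx, e⟩
  conj := fun k hk x hx => by simpa using h.conj _ hk _ hx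
  span := by rw [Set.image_comp, coe_comap, Set.image_preimage_eq_of_subset hK, h.span]

theorem Sec.comm_mem_of {F : Type*} [Field F] {K A B T : Subgroup G} [T.Normal] {π χ : G → F} (h : Sec K A B π χ)
    (hB : ∀ b ∈ B, ∀ x, ⁅b, x⁆ ∈ T) {a b c : G} (ha : a ∈ K) (hb : b ∈ K) (hc : c ∈ K) (e : χ c = χ a + χ b)
    (hd : χ a * χ a + χ a * χ b + χ b * χ b ≠ 0) {x y : G} (hx : x ∈ A) (hy : y ∈ A) : ⁅x, y⁆ ∈ T := by
  classical
  let j := QuotientGroup.mk' T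
  have h1 : ∀ b ∈ B, j b ∈ center (G ⧸ T) := fun b hb => mem_center_iff.2 fun g => by
    obtain ⟨g, rfl⟩ := QuotientGroup.mk'_surjective T g
    exact (commutatorElement_eq_one_iff_commute.1 (by rw [← map_commutatorElement]; exact (QuotientGroup.eq_one_iff _).2 (hB b hb g))).symm
  have h2 : ∀ x ∈ A, ∀ y ∈ A, ⁅j x, j y⁆ ∈ center (G ⧸ T) := fun x hx y hy => map_commutatorElement j x y ▸ h1 _ (h.comm_mem hx hy)
  let φ : G → G → Additive (center (G ⧸ T)) := fun x y => if k : ⁅j x, j y⁆ ∈ center (G ⧸ T) then Additive.ofMul ⟨_, k⟩ else 0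
  have h3 : ∀ x ∈ A, ∀ y ∈ A, ((φ x y).toMul : G ⧸ T) = ⁅j x, j y⁆ := fun x hx y hy => by simp only [φ, dif_pos (h2 x hx y hy)]; rfl
  have h4 : ∀ {u v : Additive (center (G ⧸ T))}, (u.toMul : G ⧸ T) = v.toMul → u = v := fun e => Additive.toMul.injective (Subtype.ext e)
  obtain ⟨β, hβ⟩ := h.descend₂ h φ (fun x hx y hy z hz => h4 (by
      rw [toMul_add, coe_mul, h3 _ (mul_mem hx hy) _ hz, h3 _ hx _ hz, h3 _ hy _ hz, map_mul, mem_center_iff.1 (h2 y hy z hz),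
        show ⁅j x * j y, j z⁆ = j x * ⁅j y, j z⁆ * (j x)⁻¹ * ⁅j x, j z⁆ by simp only [commutatorElement_def]; group,
        mem_center_iff.1 (h2 y hy z hz), mul_inv_cancel_right]))
    (fun y hy z hz => h4 (by
      rw [h3 _ (h.le hy) _ hz]; exact commutatorElement_eq_one_iff_mul_comm.2 (mem_center_iff.1 (h1 y hy) _).symm))
    (fun x hx y hy z hz => h4 (by
      rw [toMul_add, coe_mul, h3 _ hx _ (mul_mem hy hz), h3 _ hx _ hz, h3 _ hx _ hy, map_mul,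
        show ⁅j x, j y * j z⁆ = ⁅j x, j y⁆ * (j y * ⁅j x, j z⁆ * (j y)⁻¹) by simp only [commutatorElement_def]; group,
        mem_center_iff.1 (h2 x hx z hz) (j y), mul_inv_cancel_right]))
    (fun y hy z hz => h4 (by
      rw [h3 _ hy _ (h.le hz)]; exact commutatorElement_eq_one_iff_mul_comm.2 (mem_center_iff.1 (h1 z hz) _)))
  have h5 : ∀ k ∈ K, ∀ u v, β (χ k * u) (χ k * v) = β u v := fun k hk u v => by
    obtain ⟨u, hu, rfl⟩ := h.surj u
    obtain ⟨v, hv, rfl⟩ := h.surj v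
    have hu' := conj_mem_of_mem_normalizer (h.norm hk) hu
    have hv' := conj_mem_of_mem_normalizer (h.norm hk) hv
    rw [← h.conj k hk u hu, ← h.conj k hk v hv, hβ _ hu' _ hv', hβ _ hu _ hv]
    refine h4 ?_
    rw [h3 _ hu' _ hv', h3 _ hu _ hv, ← mul_inv_cancel_right ⁅j u, j v⁆ (j k), ← mem_center_iff.1 (h2 u hu v hv)]
    simp only [map_mul, map_inv, commutatorElement_def]
    group
  have h6 := h3 x hx y hy
  rw [← hβ x hx y hy, form_zero β (h.χ_ne ha) (h.χ_ne hb) hd (h5 a ha) (h5 b hb) (e ▸ h5 c hc), ← map_commutatorElement] at h6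
  exact (QuotientGroup.eq_one_iff _).1 h6.symm

theorem Sec.irr' {F : Type*} [Field F] {K A B X : Subgroup G} {π χ : G → F} (h : Sec K A B π χ) (hB : B ≤ X) (hA : X ≤ A)
    (hK : K ≤ 𝐍(X)) : X = B ∨ X = A := by
  refine or_iff_not_imp_left.mpr fun e => le_antisymm hA fun y hy => ?_
  obtain ⟨x, hx, h0⟩ := SetLike.not_le_iff_exists.mp fun k => e (le_antisymm k hB)
  have h1 : ∀ c ∈ AddSubgroup.closure (χ '' K), ∃ z ∈ X, π z = c * π x := fun c hc => by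
    induction hc using AddSubgroup.closure_induction with
    | mem c hc =>
      obtain ⟨k, hk, rfl⟩ := hc
      exact ⟨_, conj_mem_of_mem_normalizer (hK hk) hx, h.conj k hk x (hA hx)⟩
    | zero => exact ⟨1, one_mem _, by rw [h.one, zero_mul]⟩
    | add c d _ _ h1 h2 =>
      obtain ⟨z, hz, e1⟩ := h1
      obtain ⟨w, hw, e2⟩ := h2
      exact ⟨_, mul_mem hz hw, by rw [h.add z (hA hz) w (hA hw), e1, e2, add_mul]⟩
    | neg c _ h1 =>
      obtain ⟨z, hz, e1⟩ := h1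
      exact ⟨_, inv_mem hz, by rw [h.inv (hA hz), e1, neg_mul]⟩
  obtain ⟨z, hz, e1⟩ := h1 (π y * (π x)⁻¹) (h.span.ge trivial)
  rw [inv_mul_cancel_right₀ fun k => h0 ((h.ker x (hA hx)).mp k)] at e1
  simpa using mul_mem hz (hB ((h.eq_iff (hA hz) hy).mp e1))

namespace RO

variable (h : RO H Q t) (hf : H.normalCore = ⊥) (h2 : R2 (⊤ : Subgroup G))
include h hf h2

theorem good_cent {w : G} (hw : w ∈ Wg H Q t) :
    Good (H ⊓ centralizer ({w} : Set G)) (Q ⊓ centralizer ({w} : Set G)) t := by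
  obtain ⟨x, hx, y, hy, h3, h4, h5⟩ := h.r2_Q h2
  have h6 : R2 (centralizer ({w} : Set G)) := ⟨x, mem_cent.2 ((h.mem_W.1 hw).2 x (h.le hx) h3).symm, y,
    mem_cent.2 ((h.mem_W.1 hw).2 y (h.le hy) h4).symm, h3, h4, h5⟩
  have h7 := h.cent (X := {w}) (by simpa using h.W_le_V hw) (mem_cent.2 (h.commute_V_t (h.W_le_V hw)).symm)
  exact (h7.good_of_map _ h7.ker_mk_le (h7.quot.1.good h7.quot.2 (h7.r2_map h6.top_of _ h7.ker_mk_le))).of_subgroupOf

theorem sq_mem_Q0 {x : G} (hx : x ∈ Q) : x * x ∈ Q0g Q := mem_Q0g_of (mul_mem hx hx) ((h.good hf h2).four x hx)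

/-- an element of `D` centralizing `Q/Q₀ ≠ 1` is trivial -/
theorem eq_one_of_comm (h0 : ∃ x ∈ Q, x * x ≠ 1) {d : G} (hd : d ∈ Dg H t) (hc : ∀ x ∈ Q, d * x * d⁻¹ * x⁻¹ ∈ Q0g Q) : d = 1 := by
  obtain ⟨x0, h3, h4⟩ := h0
  have h5 : ∀ x ∈ Q, d * (x * x) * d⁻¹ = x * x := fun x hx => by
    rw [← conj_mul, ← inv_mul_cancel_right (d * x * d⁻¹) x, (h.commute_Q0 h2 (hc x hx) hx).symm.mul_mul_mul_comm,
      h.sq_Q0 h2 (hc x hx), one_mul]
  have h6 : ∀ u ∈ Q0g Q, d * u * d⁻¹ = u := fun u hu => by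
    by_cases e : u = 1
    · simp [e]
    obtain ⟨k, hk, rfl⟩ := h.exists_K' (two_of_mul_self ((h.good hf h2).four x0 h3) h4) (h.le (mul_mem h3 h3))
      (two_of_mul_self (h.sq_Q0 h2 hu) e) (h.le (Q0g_le Q hu))
    simpa only [conj_mul] using h5 _ (h.conj_Q (Kg_le H t hk).1 h3)
  refine mem_bot.mp (hf.le (h.mem_normalCore_iff.2 ⟨hd, fun x hx => mem_cent.1
    (mem_of_odd_of_mul_self_mem (h.odd_D hd) (mem_cent.2 (mul_inv_eq_iff_eq_mul.1 ?_)))⟩))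
  calc _ = d * (d * x * d⁻¹ * x⁻¹) * d⁻¹ * (d * x * d⁻¹ * x⁻¹) * x := by group
    _ = x := by rw [h6 _ (hc x hx), h.sq_Q0 h2 (hc x hx), one_mul]

theorem coord (h0 : ∃ x ∈ Q, x * x ≠ 1) : ∃ (E : Type) (_ : Field E) (Γ : Subgroup G) (ρ ψ : G → E), Γ ≤ Dg H t ∧
    Sec Γ Q (Q0g Q) ρ ψ ∧ ∃ a ∈ Γ, ∃ b ∈ Γ, ∃ c ∈ Γ, ψ c = ψ a + ψ b ∧ ψ a * ψ a + ψ a * ψ b + ψ b * ψ b ≠ 0 := by
  obtain ⟨s, r, hs⟩ := h.exists_SE
  have hg := h.good hf h2
  rcases hg.tri s r hs with ⟨-, h3⟩ | ⟨⟨x, hx, y, hy, hn⟩, ⟨-, h3⟩ | ⟨rfl, h3, ω, h4, h5, ζ, hζ, v, hv, e⟩⟩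
  · obtain ⟨x, hx, e⟩ := h0
    exact absurd (h3 x hx) e
  · obtain ⟨F, _, _, π, χ, hF, -, _, -⟩ := h.exists_field h2 hs
    have hS := h.sz h2 le_rfl hg.two h.K_norm_Q h.Q_ne_bot hF
    obtain ⟨ρ, -, ψ, θ, h4, h5, h6, -⟩ := hS.typeA (fun k => hn (PGrp.comm_of_mem k hx hy)) (by rw [h3, hF.card, card_bot, one_mul])
    obtain ⟨n, -, hn⟩ := h.exists_card_Q0 h2
    have h7 := (h4.card_eq (fun k hk l hl => h4.χ_injOn (h.fpf_K h2) le_rfl hk hl) ((h.card_K_add_one h2).trans hn)).2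
    obtain ⟨c, hc⟩ : ∃ c : F, c ^ 4 ≠ c := by
      by_contra! k
      obtain ⟨j, hj⟩ := exists_pow_of_aut 2 θ
      have h8 : ∀ i (x : F), x ^ 4 ^ i = x := fun i => by
        induction i with
        | zero => simp
        | succ i ih => intro x; rw [pow_succ, pow_mul, ih, k]
      refine h5 (orderOf_eq_one_iff.1 (Nat.Coprime.eq_one_of_dvd h6.coprime_two_right (orderOf_dvd_of_pow_eq_one ?_)))
      ext x
      rw [sq, RingAut.mul_apply, hj, hj, ← pow_mul, ← mul_pow]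
      exact h8 j x
    have h9 : c ^ 4 - c = c * (c + 1) * (c * c + c * 1 + 1 * 1) := by
      linear_combination (-(c ^ 3) - c ^ 2 - c) * CharTwo.two_eq_zero (R := F)
    rw [← sub_ne_zero, h9] at hc
    obtain ⟨a, ha, rfl⟩ := h7 c (left_ne_zero_of_mul (left_ne_zero_of_mul hc))
    obtain ⟨b, hb, e⟩ := h7 _ (right_ne_zero_of_mul (left_ne_zero_of_mul hc))
    exact ⟨F, _, _, ρ, ψ, Kg_le H t, h4, a, ha, 1, one_mem _, b, hb, by rw [e, h4.χ_one], by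
      rw [h4.χ_one]; exact right_ne_zero_of_mul hc⟩
  · have hq := fun y hy => h.sq_mem_Q0 hf h2 (x := y) hy
    have hC : C3 H Q t r := ⟨h, h2, hs, hg.two, hq, h3, fun w hw y hy h6 h7 => by_contra fun k =>
      h6 ((h.cent_W_le hf h2 hs h3 hw k (h.good_cent hf h2 hw)).le ⟨hy, mem_cent.2 h7.symm⟩)⟩
    have h6 : ζ ≠ 1 := by
      rintro rfl
      have h6 : Fr H t ω⁻¹ ω := h.fr_of (inv_mem hv) (by
        rw [← inv_inj, mul_inv_rev, mul_inv_rev, h.t_inv, inv_inv, ← mul_assoc, e]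
        simp [mul_assoc, h.t_inv])
      refine h.tH ?_
      rw [h.reg' h2 hs hq t_L (Q0_L (hq ω h4)) ((h.om_iff h2 hs).2 ⟨_, inv_mem h4, fun k => h5 (h.sq_Q0 h2 (inv_mem_iff.1 k)), rfl⟩)
        (h6.trans (by simp [smul_pt, mul_assoc]))]
      exact h.le (mul_mem h4 h4)
    haveI := hC.W_comm
    obtain ⟨E, _, _, _, ρ, ψ, β, hE⟩ := hC.exists_E le_rfl fun k => h6 (mem_bot.1 (k.le hζ))
    refine ⟨E, _, _, ρ, ψ, sup_le (Kg_le H t) (Wg_le H Q t), hE.sec, ?_⟩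
    obtain ⟨k, hk, hi, hp⟩ := h.exists_K_prime h2
    replace hk := mem_Kg_of hk hi
    have h7 : ∀ a ∈ Kg H t ⊔ Wg H Q t, a ≠ 1 → ψ a + 1 ≠ 0 := fun a ha h7 e =>
      h7 (hE.inj a ha 1 (one_mem _) (by rw [hE.sec.χ_one]; exact CharTwo.add_eq_zero.1 e))
    have h8 := hE.normA ζ hζ
    have h9 := hE.sec.χ_ne (mem_sup_right hζ)
    have h10 : β (ψ ζ) ≠ ψ ζ := fun e => h7 ζ (mem_sup_right hζ) h6 (pow_eq_zero_iff two_ne_zero |>.1 (by
      rw [e] at h8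
      linear_combination h8 + (ψ ζ + 1) * CharTwo.two_eq_zero (R := E)))
    by_cases h11 : ψ k * ψ k + ψ k * 1 + 1 * 1 = 0
    swap
    · obtain ⟨b, hb, e⟩ := hE.surjK _ (h7 k (mem_sup_left hk) (ne_one_of_prime hp)) (by rw [map_add, hE.fixK k hk, map_one])
      exact ⟨k, mem_sup_left hk, 1, one_mem _, b, mem_sup_left hb, by rw [e, hE.sec.χ_one], by rwa [hE.sec.χ_one]⟩
    have h12 : ψ ζ⁻¹ = β (ψ ζ) := by rw [hE.sec.χ_inv (mem_sup_right hζ), inv_eq_of_mul_eq_one_right h8]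
    obtain ⟨b, hb, e⟩ := hE.surjK (ψ ζ + β (ψ ζ)) (fun e => h10 (CharTwo.add_eq_zero.1 e).symm) (by
      have := hE.normA _ (inv_mem hζ)
      rw [h12] at this
      rw [map_add, add_comm, mul_left_cancel₀ (fun e => by simp [e] at h8) (this.trans (h8.symm.trans (mul_comm _ _)))])
    refine ⟨ζ, mem_sup_right hζ, ζ⁻¹, mem_sup_right (inv_mem hζ), b, mem_sup_left hb, by rw [e, h12], fun e1 => h10 ?_⟩
    rw [h12] at e1
    have h13 : (ψ ζ * ψ ζ + ψ ζ + 1) ^ 2 = 0 := by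
      linear_combination ψ ζ ^ 2 * e1 - (ψ ζ ^ 2 + ψ ζ * β (ψ ζ) + 1) * h8 + (ψ ζ ^ 3 + ψ ζ ^ 2 + ψ ζ) * CharTwo.two_eq_zero (R := E)
    have h14 : (ψ ζ + ψ k) * (ψ ζ + (ψ k + 1)) = 0 := by
      linear_combination (pow_eq_zero_iff two_ne_zero).1 h13 + h11 + (ψ ζ * ψ k - 1) * CharTwo.two_eq_zero (R := E)
    rcases mul_eq_zero.1 h14 with e2 | e2 <;> rw [CharTwo.add_eq_zero.1 e2]
    · exact hE.fixK k hk
    · rw [map_add, hE.fixK k hk, map_one]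

end RO

end Cfsg.Lib.BS
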