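import Cfsg.Agent.Lib.ZD.T1
import Cfsg.Agent.Lib.Mult.Transfer

/-! Tightly embedded subgroups meeting the normalizers of their conjugates in subgroups of odd order. -/

set_option autoImplicit false
set_option linter.unusedSectionVars false

namespace Cfsg.Lib.ZD

open Subgroup MulAction Cfsg.Lib.Core Cfsg.Lib.Amalg Cfsg.Lib.BG1 Cfsg.Lib.Invol Cfsg.Lib.BS
open scoped commutatorElement

universe u
variable {G : Type u} [Group G] [Finite G] {Q N : Subgroup G} {x y g u : G}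

structure TE (Q N : Subgroup G) : Prop where
  le : Q ≤ N
  norm : N ≤ 𝐍(Q)
  ne : N ≠ ⊤
  ev : ∃ z ∈ Q, orderOf z = 2
  fus : ∀ {t g : G}, orderOf t = 2 → t ∈ Q → g * t * g⁻¹ ∈ N → g ∈ N

/-- the involutions in conjugates of `Q` -/
def TZ (Q : Subgroup G) : Set G := {x | orderOf x = 2 ∧ ∃ g, g⁻¹ * x * g ∈ Q}

theorem mem_TZ (h2 : orderOf x = 2) (hx : x ∈ Q) : x ∈ TZ Q := ⟨h2, 1, by simpa⟩

theorem TZ_conj (hx : x ∈ TZ Q) (g : G) : g * x * g⁻¹ ∈ TZ Q :=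
  let ⟨h2, k, hk⟩ := hx; ⟨(orderOf_conj g x).trans h2, g * k, by simpa [mul_assoc] using hk⟩

theorem ZL_TZ_le : ZL (TZ Q) ⊤ ≤ normalClosure (Q : Set G) := (closure_le _).mpr fun x ⟨⟨_, g, hg⟩, _⟩ => by
  simpa [mul_assoc] using normalClosure_normal.conj_mem _ (subset_normalClosure hg) g

theorem eq_one_of_two_odd {X : Type*} [Group X] {x : X} {j n : ℕ} (h1 : x ^ 2 ^ j = 1) (hn : Odd n) (h2 : x ^ n = 1) : x = 1 :=
  orderOf_eq_one_iff.1 (Nat.eq_one_of_dvd_coprimes (hn.coprime_two_left.pow_left j) (orderOf_dvd_of_pow_eq_one h1)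
    (orderOf_dvd_of_pow_eq_one h2))

namespace TE

variable (h : TE Q N)
include h

theorem fus' (hx : x ∈ TZ Q) {k : G} (hk : k⁻¹ * x * k ∈ Q) (h1 : g⁻¹ * x * g ∈ N) : g⁻¹ * k ∈ N :=
  h.fus ((orderOf_conj' k x).trans hx.1) hk (by simpa [mul_assoc] using h1)

theorem mem_Q (hx : x ∈ TZ Q) (h1 : x ∈ N) : x ∈ Q := by
  obtain ⟨k, hk⟩ := hx.2
  simpa [mul_assoc] using conj_mem_of_mem_normalizer (h.norm (h.fus' hx hk (g := 1) (by simpa))) hk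

theorem za : ZA (G ⧸ N) (TZ Q) := by
  have hu : ∀ {z : G} {a b : G ⧸ N}, z ∈ TZ Q → z • a = a → z • b = b → a = b := fun {z a b} hz h1 h2 => by
    obtain ⟨a, rfl⟩ := QuotientGroup.mk_surjective a
    obtain ⟨b, rfl⟩ := QuotientGroup.mk_surjective b
    obtain ⟨k, hk⟩ := hz.2
    exact (QuotientGroup.eq.2 (h.fus' hz hk (fix_coset.1 h1))).trans (QuotientGroup.eq.2 (h.fus' hz hk (fix_coset.1 h2))).symm
  refine ⟨fun g hz => TZ_conj hz g, fun hz => hz.1, fun a => ?_, fun ⟨_, g, hg⟩ => ⟨g, fix_coset.2 (h.le hg)⟩, hu,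
    fun {x y a b} hx hy h1 h2 => hu ?_, ?_⟩
  · obtain ⟨a, rfl⟩ := QuotientGroup.mk_surjective a
    obtain ⟨z, h1, h2⟩ := h.ev
    exact ⟨_, TZ_conj (mem_TZ h2 h1) a, fix_coset.2 (by simpa [mul_assoc] using h.le h1)⟩
  · obtain ⟨g, hg⟩ := hx.2
    refine ⟨two_mul_of_commute hx.1 hy.1 h1 h2, g, ?_⟩
    have := h.mem_Q (TZ_conj hy g⁻¹) (h.fus ((orderOf_conj' g x).trans hx.1) hg (by
      simpa [mul_assoc, h2.symm.left_comm] using h.le hg))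
    simpa [mul_assoc] using mul_mem hg this
  · obtain ⟨g, -, hg⟩ := SetLike.exists_of_lt h.ne.lt_top
    exact ⟨g, (1 : G), fun e => hg (by simpa using QuotientGroup.eq.1 e)⟩

theorem dec (g : G) : ∃ s ∈ ZL (TZ Q) ⊤, s⁻¹ * g ∈ N := by
  by_cases e : ((1 : G) : G ⧸ N) = g
  · exact ⟨1, one_mem _, QuotientGroup.eq.1 e⟩
  obtain ⟨s, hs, e⟩ := h.za.swap e
  exact ⟨s, mem_ZL hs (mem_top s), QuotientGroup.eq.1 (by simpa using e)⟩

theorem odd_of (hg : g ∉ N) (hx : x ∈ Q) (h1 : g * x * g⁻¹ ∈ N) : Odd (orderOf x) :=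
  odd_of_mem (BS.odd_card_iff.2 fun _ hs e => hg (h.fus e hs.1 hs.2) :
    Odd (Nat.card ↥(Q ⊓ N.comap (MulAut.conj g).toMonoidHom))) ⟨hx, h1⟩

theorem two_mem_of {M : Subgroup G} [M.Normal] (h1 : ZL (TZ Q) ⊤ ≤ M) (h2 : ∀ y ∈ Q, ∀ j, y ^ 2 ^ j = 1 → y ∈ M)
    (hu : u ∈ normalClosure (Q : Set G)) {j : ℕ} (hj : u ^ 2 ^ j = 1) : u ∈ M := by
  haveI : (Q ⊔ M).Normal := normalizer_eq_top_iff.1 (eq_top_iff.2 fun g _ => by
    obtain ⟨s, h3, h4⟩ := h.dec g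
    simpa using mul_mem (le_normalizer (mem_sup_right (h1 h3))) (norm_sup h.norm le_normalizer_of_normal h4))
  obtain ⟨q, hq, m, hm, rfl⟩ := mem_sup_of_normal_right.1 (normalClosure_le_normal (le_sup_left : Q ≤ Q ⊔ M) hu)
  obtain ⟨i, n, hn, e⟩ := Nat.exists_eq_two_pow_mul_odd (orderOf_pos q).ne'
  refine (QuotientGroup.eq_one_iff _).1 (eq_one_of_two_odd (j := j) (by rw [← QuotientGroup.mk_pow, hj, QuotientGroup.mk_one]) hn ?_)
  rw [QuotientGroup.mk_mul_of_mem _ hm, ← QuotientGroup.mk_pow, QuotientGroup.eq_one_iff]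
  exact h2 _ (pow_mem hq n) i (by rw [← pow_mul, mul_comm, ← e, pow_orderOf_eq_one])

end TE

theorem mem_core_iff : g ∈ N.normalCore ↔ ∀ d : G ⧸ N, g • d = d :=
  ⟨fun hv d => by
    obtain ⟨k, rfl⟩ := QuotientGroup.mk_surjective d
    exact fix_coset.mpr (by simpa using hv k⁻¹), fun e k => by simpa using fix_coset.1 (e (k⁻¹ : G))⟩

structure TL (Q N : Subgroup G) {L : Type u} [Group L] (f : ZL (TZ Q) ⊤ →* L) (H R : Subgroup L) (t : ZL (TZ Q) ⊤) : Prop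
    extends TE Q N where
  hO : Cfsg.oddCore G = ⊥
  surj : Function.Surjective f
  r2 : R2 (⊤ : Subgroup L)
  core : H.normalCore = ⊥
  mem : ∀ {g}, f g ∈ H ↔ (g : G) ∈ N
  ker : ∀ {g}, f g = 1 ↔ (g : G) ∈ N.normalCore
  ro : RO H R (f t)
  inv : ∀ v : L, orderOf v = 2 → ∃ z : ZL (TZ Q) ⊤, (z : G) ∈ TZ Q ∧ f z = v
  tt : (t : G) * t = 1

theorem TE.exists_tl (h : TE Q N) (hO : Cfsg.oddCore G = ⊥) (hr : RZ (TZ Q) ⊤) : ∃ (L : Type u) (_ : Group L) (_ : Finite L)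
    (f : ZL (TZ Q) ⊤ →* L) (H R : Subgroup L) (t : ZL (TZ Q) ⊤), TL Q N f H R t := by
  have hZ := h.za
  obtain ⟨L, _, _, f, H, R, h1, -, h2, h3, h4, h5, h6, h7⟩ := hZ.loc eg (hZ.four_top hr (1 : G)) fun e =>
    h.ne (eq_top_iff.2 (e.trans (stab_one N).le))
  obtain ⟨b, hb⟩ := hZ.exists_ne ((1 : G) : G ⧸ N)
  obtain ⟨t, ht, rfl⟩ := hZ.swap hb.symm
  exact ⟨L, _, ‹_›, f, H, R, ⟨t, mem_ZL ht (mem_top t)⟩, h, hO, h1, h2, h3, (h4 _).trans (by rw [fix_coset]; simp),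
    (h5 _).trans (⟨fun e => mem_core_iff.2 fun d => e d (hZ.dl_top d), fun e d _ => mem_core_iff.1 e d⟩), h6 _ ht hb, h7, hZ.sq ht⟩

namespace TL

variable {L : Type u} [Group L] [Finite L] {f : ZL (TZ Q) ⊤ →* L} {H R : Subgroup L} {t : ZL (TZ Q) ⊤} (h : TL Q N f H R t)
  {a : G} {v : L}
include h

theorem O_core : 𝐎'[2](N.normalCore) = ⊥ :=
  haveI : (𝐎'[2](N.normalCore)).Normal := normalizer_eq_top_iff.mp (eq_top_iff.mpr (le_norm_piCoreOf _ le_normalizer_of_normal))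
  eq_bot_iff.2 ((le_oddCore (odd_O2 _)).trans h.hO.le)

theorem QA (hx : x ∈ Q) (ha : x ∈ N.normalCore) : x = 1 := by
  obtain ⟨b, c, hbc⟩ := h.za.nt
  exact mem_bot.1 (h.O_core.le (le_O2 (X := Q ⊓ N.normalCore) inf_le_right (norm_inf (N.normalCore_le.trans h.norm) le_normalizer)
    (BS.odd_card_iff.2 fun s hs e => hbc (h.za.uniq (mem_TZ e hs.1) (mem_core_iff.1 hs.2 b) (mem_core_iff.1 hs.2 c))) ⟨hx, ha⟩))

theorem cen (hx : x ∈ normalClosure (Q : Set G)) (ha : a ∈ N.normalCore) : Commute a x :=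
  normalClosure_le_normal (N := 𝐂(N.normalCore)) (fun q hq a ha => (mul_inv_eq_one.1 (h.QA (x := a * q * (q * a)⁻¹)
    (by simpa [mul_assoc] using mul_mem (conj_mem_of_mem_normalizer (h.norm (N.normalCore_le ha)) hq) (inv_mem hq))
    (by simpa [mul_assoc] using mul_mem ha ((normalCore_normal N).conj_mem _ (inv_mem ha) q))))) hx a ha

theorem comm1 (hx : x ∈ Q ⊔ N.normalCore) (hy : y ∈ N) (h1 : y ∈ normalClosure (Q : Set G)) : ⁅x, y⁆ ∈ Q := by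
  obtain ⟨q, hq, a, ha, rfl⟩ := mem_sup_of_normal_right.1 hx
  rw [show ⁅q * a, y⁆ = q * (a * y * a⁻¹ * q⁻¹ * y⁻¹) by simp [commutatorElement_def, mul_assoc], (h.cen h1 ha).eq,
    mul_inv_cancel_right]
  exact mul_mem hq (conj_mem_of_mem_normalizer (h.norm hy) (inv_mem hq))

omit h in
variable (N f) in
/-- the image of `Q` -/
def XX : Subgroup L := ((Q ⊔ N.normalCore).subgroupOf _).map f

theorem mem_X {x : ZL (TZ Q) ⊤} : f x ∈ XX N f ↔ (x : G) ∈ Q ⊔ N.normalCore :=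
  ⟨fun ⟨y, hy, e⟩ => by
    simpa using mul_mem (mem_subgroupOf.1 hy) (mem_sup_right (h.ker.1 (show f (y⁻¹ * x) = 1 by simp [e]))), fun e => ⟨x, e, rfl⟩⟩

theorem norm_X : H ≤ 𝐍(XX N f) := fun v hv => mem_norm_of fun w hw => by
  obtain ⟨v, rfl⟩ := h.surj v
  obtain ⟨w, rfl⟩ := h.surj w
  simpa only [map_mul, map_inv] using (h.mem_X (x := v * w * v⁻¹)).2 (conj_mem_of_mem_normalizer
    (norm_sup h.norm le_normalizer_of_normal (h.mem.1 hv)) (h.mem_X.1 hw))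

theorem Q0_le : Q0g R ≤ XX N f := fun v hv => by
  by_cases e : v = 1
  · exact e ▸ one_mem _
  obtain ⟨z, hz, rfl⟩ := h.inv v (two_of_mul_self (h.ro.sq_Q0 h.r2 hv) e)
  exact h.mem_X.2 (mem_sup_left (h.mem_Q hz (h.mem.1 (h.ro.le (Q0g_le R hv)))))

theorem dich : R ≤ XX N f ∨ ((∃ x ∈ R, x * x ≠ 1) ∧ ∀ v ∈ XX N f, v ∈ H → v ∈ Q0g R) := by
  by_cases h0 : ∃ x ∈ R, x * x ≠ 1
  swap
  · exact Or.inl fun x hx => h.Q0_le (mem_Q0g_of hx (by_contra fun e => h0 ⟨x, hx, e⟩))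
  obtain ⟨E, _, Γ, ρ, ψ, h1, h2, -⟩ := h.ro.coord h.core h.r2 h0
  refine (h2.irr' (X := XX N f ⊓ R) (le_inf h.Q0_le (Q0g_le R)) inf_le_right
    (h1.trans (inf_le_left.trans (norm_inf h.norm_X h.ro.norm)))).symm.imp (fun e => e.ge.trans inf_le_left)
    fun e => ⟨h0, fun v h3 h4 => ?_⟩
  obtain ⟨r, hr, d, hd, rfl⟩ := h.ro.exists_QD h4
  obtain rfl : d = 1 := h.ro.eq_one_of_comm h.core h.r2 h0 hd fun x hx => by
    have h5 : r * d * x * (r * d)⁻¹ * x⁻¹ ∈ Q0g R := e.le (mem_inf.2 ⟨by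
      simpa [mul_assoc] using mul_mem h3 (conj_mem_of_mem_normalizer (h.norm_X (h.ro.le hx)) (inv_mem h3)),
      mul_mem (h.ro.conj_Q h4 hx) (inv_mem hx)⟩)
    have := mul_mem (conj_mem_of_mem_normalizer (h.ro.H_norm_Q0 (h.ro.le (inv_mem hr))) h5) (h2.comm_mem (inv_mem hr) hx)
    simpa [commutatorElement_def, mul_assoc] using this
  exact e.le ⟨h3, by simpa⟩

theorem t_inv : (t : G)⁻¹ = t := inv_eq_of_mul_eq_one_right h.tt

theorem tN : (t : G) ∉ N := fun e => h.ro.tH (h.mem.2 e)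

theorem mem_D {x : ZL (TZ Q) ⊤} : f x ∈ Dg H (f t) ↔ (x : G) ∈ N ∧ t * x * (t : G)⁻¹ ∈ N := by
  rw [h.ro.mem_D, ← map_mul, ← map_mul, h.mem, h.mem, h.t_inv]; rfl

theorem two_mem (hy : y ∈ Q) (j : ℕ) (hj : y ^ 2 ^ j = 1) : y ∈ ZL (TZ Q) ⊤ ⊔ N.normalCore := by
  haveI hn := h.za.ZL_normal
  have hyN := h.le hy
  obtain ⟨r, hr, x, hx, e⟩ := h.ro.exists_QtH (g := f ⟨_, hn.conj_mem _ t.2 y⟩) fun k => h.tN (by
    simpa [mul_assoc] using mul_mem (mul_mem (inv_mem hyN) (h.mem.1 k)) hyN)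
  obtain ⟨r, rfl⟩ := h.surj r
  have h1 := h.mem.1 (h.ro.le hr)
  have h2 : t * ((r : G)⁻¹ * y) * (t : G)⁻¹ ∈ N := by
    have := h.mem.1 (show f (t⁻¹ * r⁻¹ * ⟨_, hn.conj_mem _ t.2 y⟩) ∈ H by simp only [map_mul, map_inv, e]; simpa [mul_assoc] using hx)
    simpa [mul_assoc, h.t_inv] using mul_mem this hyN
  have h3 : f r ∈ XX N f := h.dich.elim (fun k => k hr) fun ⟨_, k⟩ => h.Q0_le (inv_mem_iff.1 (by_contra fun h4 => by
    obtain ⟨c, hc, hi, hp⟩ := h.ro.exists_K_prime h.r2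
    obtain ⟨c, rfl⟩ := h.surj c
    have h5 := h.mem_D.1 hc
    have h6 : y * c * y⁻¹ * (c : G)⁻¹ ∈ Q := by
      simpa [mul_assoc] using mul_mem hy (conj_mem_of_mem_normalizer (h.norm h5.1) (inv_mem hy))
    have h7 := k _ ((h.mem_X (x := ⟨_, hn.conj_mem _ c.2 y⟩ * c⁻¹)).2 (mem_sup_left h6)) (h.mem.2 (h.le h6))
    have h8 : f ⟨_, hn.conj_mem _ c.2 ((r : G)⁻¹ * y)⟩ ∈ Dg H (f t) := h.mem_D.2 ⟨mul_mem (mul_mem (mul_mem (inv_mem h1) hyN) h5.1)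
      (inv_mem (mul_mem (inv_mem h1) hyN)), by simpa [mul_assoc] using mul_mem (mul_mem h2 h5.2) (inv_mem h2)⟩
    obtain ⟨e1, e2⟩ := h.ro.QD_unique (Q0g_le R h7) hc (mul_mem hr (h.ro.conj_Q h8.1 (inv_mem hr))) h8 (by
      simp only [← map_mul, ← map_inv]
      exact congrArg f (Subtype.ext (by simp [mul_assoc])))
    rw [← e2] at e1
    refine h4 (mem_Q0g_of (inv_mem hr) (h.ro.K_fpf hc.1 hi (ne_one_of_prime hp) (mul_mem (inv_mem hr) (inv_mem hr)) ?_))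
    rw [Commute, SemiconjBy, ← mul_inv_eq_iff_eq_mul, ← conj_mul, ← inv_mul_cancel_left (f r) (f c * _ * _), ← e1,
      (h.ro.commute_Q0 h.r2 h7 (inv_mem hr)).mul_mul_mul_comm, h.ro.sq_Q0 h.r2 h7, mul_one]))
  obtain ⟨q, hq, a, ha, e1⟩ := mem_sup_of_normal_right.1 (h.mem_X.1 h3)
  have h4 := h.odd_of h.tN (mul_mem (inv_mem hq) hy) (by
    have := mul_mem (N.normalCore_le ((normalCore_normal N).conj_mem a ha t)) h2
    rw [← e1] at this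
    simpa [mul_assoc] using this)
  refine (QuotientGroup.eq_one_iff _).1 (eq_one_of_two_odd (j := j) (by rw [← QuotientGroup.mk_pow, hj, QuotientGroup.mk_one]) h4 ?_)
  have h5 : q ∈ ZL (TZ Q) ⊤ ⊔ N.normalCore := by
    simpa [← e1] using mul_mem (mem_sup_left r.2 : _ ∈ ZL (TZ Q) ⊤ ⊔ N.normalCore) (mem_sup_right (inv_mem ha))
  rw [← mul_inv_cancel_left q y, QuotientGroup.mk_mul, (QuotientGroup.eq_one_iff _).2 h5, one_mul, inv_mul_cancel_left,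
    ← QuotientGroup.mk_pow, pow_orderOf_eq_one, QuotientGroup.mk_one]

theorem dec2 (hu : u ∈ normalClosure (Q : Set G)) (h1 : u ∈ N) {j : ℕ} (hj : u ^ 2 ^ j = 1) :
    ∃ x : ZL (TZ Q) ⊤, f x ∈ R ∧ ∃ a ∈ N.normalCore, x * a = u := by
  haveI := h.za.ZL_normal
  obtain ⟨x, hx, a, ha, rfl⟩ := mem_sup_of_normal_right.1 (h.two_mem_of le_sup_left (fun _ => h.two_mem) hu hj)
  refine ⟨⟨x, hx⟩, h.ro.mem_Q_of_pow (k := j) (h.mem.2 ((mul_mem_cancel_right (N.normalCore_le ha)).1 h1)) ?_, a, ha, rfl⟩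
  rw [(h.cen (ZL_TZ_le hx) ha).symm.mul_pow] at hj
  rw [← map_pow, h.ker.2 (by simpa [eq_inv_of_mul_eq_one_left hj] using pow_mem ha _)]
  exact one_mem _

theorem comm_mem {x y : ZL (TZ Q) ⊤} (hx : f x ∈ R) (hy : f y ∈ R) : ⁅(x : G), (y : G)⁆ ∈ Q := by
  rcases h.dich with k | ⟨h0, k⟩
  · exact h.comm1 (h.mem_X.1 (k hx)) (h.mem.1 (h.ro.le hy)) (ZL_TZ_le y.2)
  obtain ⟨E, _, Γ, ρ, ψ, h1, h2, a, ha, b, hb, c, hc, h3, h4⟩ := h.ro.coord h.core h.r2 h0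
  have h5 : H ≤ (f.comp (H.comap f).subtype).range := fun v hv => by
    obtain ⟨v, rfl⟩ := h.surj v
    exact ⟨⟨v, hv⟩, rfl⟩
  obtain ⟨a, rfl⟩ := h5 (h1 ha).1
  obtain ⟨b, rfl⟩ := h5 (h1 hb).1
  obtain ⟨c, rfl⟩ := h5 (h1 hc).1
  haveI : (Q.comap ((ZL (TZ Q) ⊤).subtype.comp (H.comap f).subtype)).Normal :=
    ⟨fun q hq g => mem_comap.2 (conj_mem_of_mem_normalizer (h.norm (h.mem.1 g.2)) (mem_comap.1 hq))⟩
  exact (h2.comap (h1.trans (inf_le_left.trans h5)) (h.ro.le.trans h5)).comm_mem_of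
    (T := Q.comap ((ZL (TZ Q) ⊤).subtype.comp (H.comap f).subtype))
    (fun b hb x => h.comm1 (h.mem_X.1 (h.Q0_le hb)) (h.mem.1 x.2) (ZL_TZ_le x.1.2)) ha hb hc h3 h4
    (x := ⟨x, h.ro.le hx⟩) (y := ⟨y, h.ro.le hy⟩) hx hy

theorem mem_comm (hy : y ∈ Q) (j : ℕ) (hj : y ^ 2 ^ j = 1) : y ∈ ⁅normalClosure (Q : Set G), normalClosure (Q : Set G)⁆ := by
  obtain ⟨x, hx, a, ha, rfl⟩ := h.dec2 (subset_normalClosure hy) (h.le hy) hj
  obtain ⟨c, hc, hi, hp⟩ := h.ro.exists_K_prime h.r2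
  obtain ⟨w, hw, e⟩ := Coprime.exists_eq_commutator_of_fpf (K := XX N f ⊓ R) (norm_inf h.norm_X h.ro.norm hc.1)
    (eq_bot_iff.2 fun w hw => h.ro.K_fpf hc.1 hi (ne_one_of_prime hp) hw.1.2 (mem_cent.1 hw.2).symm)
    ⟨h.mem_X.2 ((mul_mem_cancel_right (mem_sup_right ha)).1 (mem_sup_left hy)), hx⟩
  obtain ⟨c, rfl⟩ := h.surj c
  obtain ⟨w, rfl⟩ := h.surj w
  have h1 := h.comm1 (h.mem_X.1 hw.1) (h.mem.1 hc.1) (ZL_TZ_le c.2)
  have h2 := mul_mem (h.ker.1 (show f ((w * c * w⁻¹ * c⁻¹)⁻¹ * x) = 1 by simp only [map_mul, map_inv, ← e, inv_mul_cancel])) ha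
  rw [← inv_mul_eq_one.1 (h.QA (mul_mem (inv_mem h1) hy) (by simpa [commutatorElement_def, mul_assoc] using h2))]
  exact commutator_mem_commutator (ZL_TZ_le w.2) (ZL_TZ_le c.2)

theorem not_core (hu : u ∈ normalClosure (Q : Set G)) (h2 : orderOf u = 2) : u ∉ N.normalCore := fun ha => by
  haveI := fact_two
  have hQ : Q ≤ normalClosure (Q : Set G) := subset_normalClosure
  obtain ⟨S, hS⟩ := exists_syl 2 (normalClosure (Q : Set G) ⊓ N)
  obtain ⟨z, h3, h4⟩ := h.ev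
  obtain ⟨s, h5, h6⟩ := exists_two_mem_of_even (even_iff_two_dvd.mpr (dvd_card_of_isPGroup_ne_bot hS.isPGroup.to_inf_left
    ((hS.inf_normal (le_inf hQ h.le) (inf_le_right.trans h.norm)).ne_bot (even_card_of_two_mem h4 h3).two_dvd)))
  have h7 := (hS.of_normalizer_le inf_le_left fun g hg => ⟨hg.1, h.fus h6 h5.2
    (hS.le (conj_mem_of_mem_normalizer hg.2 h5.1)).2⟩).not_dvd_relIndex
  have h8 : ⁅S, S⁆ ≤ Q := commutator_le.2 fun x hx y hy => by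
    obtain ⟨i, hi⟩ := isPGroup_iff_mem.1 hS.isPGroup x hx
    obtain ⟨j, hj⟩ := isPGroup_iff_mem.1 hS.isPGroup y hy
    have h9 := (hS.le hy).1
    obtain ⟨x, h10, a, ha, rfl⟩ := h.dec2 (hS.le hx).1 (hS.le hx).2 hi
    obtain ⟨y, h11, b, hb, rfl⟩ := h.dec2 h9 (hS.le hy).2 hj
    convert h.comm_mem h10 h11 using 1
    calc _ = x * (a * (y * b) * a⁻¹) * (x : G)⁻¹ * (y * b)⁻¹ := by simp only [commutatorElement_def]; group
      _ = x * y * (b * (x : G)⁻¹) * b⁻¹ * (y : G)⁻¹ := by rw [(h.cen h9 ha).eq]; group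
      _ = _ := by rw [(h.cen (ZL_TZ_le (inv_mem x.2)) hb).eq]; simp only [commutatorElement_def]; group
  have h9 := h.two_mem_of (M := ⁅normalClosure (Q : Set G), normalClosure (Q : Set G)⁆) ((closure_le _).2 fun x ⟨⟨hx, g, hg⟩, _⟩ => by
    simpa [mul_assoc] using (commutator_normal _ _).conj_mem _ (h.mem_comm hg 1 (by
      simp [sq, mul_assoc, ← mul_assoc x x, mul_self_of_two hx])) g)
    (fun _ => h.mem_comm) hu (j := 1) (by rw [pow_one, sq, mul_self_of_two h2])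
  rw [← map_subtype_commutator] at h9
  obtain ⟨w, h10, rfl⟩ := h9
  have h11 := mem_map_of_mem (Subgroup.subtype _) (Mult.pow_index_mem_commutator (H := S.subgroupOf _)
    (mem_center_iff.2 fun g => Subtype.ext (h.cen g.2 ha).symm.eq) h10)
  rw [map_commutator, subgroupOf_map_subtype, map_pow] at h11
  exact h7 (h2 ▸ orderOf_dvd_of_pow_eq_one (h.QA (h8 (commutator_mono inf_le_left inf_le_left h11)) (pow_mem ha _)))

theorem sek (hu : u ∈ normalClosure (Q : Set G)) (h2 : orderOf u = 2) (h1 : u ∈ N) (hg : g * u * g⁻¹ ∈ N) : g ∈ N := by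
  obtain ⟨x, hx, a, ha, rfl⟩ := h.dec2 hu h1 (j := 1) (by rw [pow_one, sq, mul_self_of_two h2])
  obtain ⟨s, h3, h4⟩ := h.dec g⁻¹
  by_contra h5
  refine h.not_core hu h2 (mul_mem (h.ker.1 (h.ro.eq_one_of_conj_mem (g := f ⟨s, h3⟩⁻¹) (fun e => h5 ?_) hx ?_)) ha)
  · simpa using (mul_mem_cancel_left (h.mem.1 e)).1 h4
  · simp only [← map_mul, ← map_inv, h.mem]
    simpa [mul_assoc] using mul_mem (mul_mem (mul_mem h4 hg) (inv_mem h4))
      (N.normalCore_le ((normalCore_normal N).conj_mem _ (inv_mem ha) s⁻¹))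

end TL

theorem TE.sek (h : TE Q N) (hu : u ∈ normalClosure (Q : Set G)) (h2 : orderOf u = 2) (h1 : u ∈ N) (hg : g * u * g⁻¹ ∈ N) :
    g ∈ N := by
  have hZ := h.za
  obtain ⟨z, h3, h4⟩ := h.ev
  by_cases hr : RZ (TZ Q) ⊤
  · have hO : Cfsg.oddCore G ≤ N := (hZ.le_of_four ((hZ.four_top hr (1 : G)).mono (normalizer_eq_top _).ge)
      (odd_card_oddCore G)).trans (stab_one N).le
    have h5 : TE (Q.map (oq G)) (N.map (oq G)) := ⟨map_mono h.le, (map_mono h.norm).trans (le_normalizer_map _),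
      fun e => h.ne (eq_top_iff.2 fun x _ => (mem_map_oq hO).1 (e.ge (mem_top _))),
      ⟨_, mem_map_of_mem _ h3, two_map _ oq_odd h4⟩, fun {t g} ht ⟨x, hx, e⟩ h6 => by
        subst e
        obtain ⟨g, rfl⟩ := oq_surj g
        obtain ⟨v, h7, hv, h8⟩ := exists_two_lift _ oq_odd ht
        exact mem_map_of_mem _ (h.fus hv (zp_le.2 hx h7) ((mem_map_oq hO).1 (by rwa [map_mul, map_mul, map_inv, h8])))⟩
    have h6 : ∀ x ∈ TZ Q, oq G x ∈ TZ (Q.map (oq G)) := fun x ⟨hx, g, hg⟩ =>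
      ⟨two_map _ oq_odd hx, oq G g, by simpa using mem_map_of_mem (oq G) hg⟩
    obtain ⟨x, hx, -, y, hy, -, h7, h8⟩ := hr
    obtain ⟨L, _, _, f, H, R, t, hL⟩ := h5.exists_tl pPrimeCore_quotient_pPrimeCore ⟨_, h6 x hx, mem_top _, _, h6 y hy, mem_top _,
      fun e => ne_one_of_two (two_map _ oq_odd (two_mul_of_commute hx.1 hy.1 h7 h8)) (by
        rw [map_mul, e, ← map_mul, mul_self_of_two hy.1, map_one]), h8.map _⟩
    refine (mem_map_oq hO).1 (hL.sek ?_ (two_map _ oq_odd h2) (mem_map_of_mem _ h1) (by simpa using mem_map_of_mem (oq G) hg))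
    rw [coe_map, ← map_normalClosure _ _ oq_surj]
    exact mem_map_of_mem _ hu
  haveI : (Cfsg.oddCore G ⊔ Q).Normal := normalizer_eq_top_iff.1 (eq_top_iff.2 fun g _ => by
    obtain ⟨s, h5, h6⟩ := h.dec g
    have h7 : ZL (TZ Q) ⊤ ≤ Cfsg.oddCore G ⊔ Q := (closure_le _).2 fun x hx => by
      simpa [mul_assoc, mul_self_of_two h4] using mul_mem (mem_sup_left (((piCoreOf_top' _).trans (pPrimeCore_eq_piCore Nat.prime_two).symm).le
        (hZ.mul_mem_O hr hx.1 hx.2 (mem_TZ h4 h3) hx.2)) : _ ∈ Cfsg.oddCore G ⊔ Q) (mem_sup_right h3)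
    simpa using mul_mem (le_normalizer (h7 h5)) (norm_sup le_normalizer_of_normal h.norm h6))
  obtain ⟨o, ho, q, hq, rfl⟩ := mem_sup_of_normal_left.1 (normalClosure_le_normal (le_sup_right : Q ≤ Cfsg.oddCore G ⊔ Q) hu)
  have h5 : oq G (o * q) = oq G q := by rw [map_mul, oq_eq_one.2 ho, one_mul]
  obtain ⟨v, h6, hv, h7⟩ := exists_two_lift _ oq_odd (h5 ▸ two_map _ oq_odd h2)
  have h8 := hZ.mul_mem_of_inv (mem_TZ hv (zp_le.2 hq h6)) (odd_of_mem (odd_card_oddCore G) (oq_eq_one.1 (show oq G (o * q * v) = 1 by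
    rw [map_mul, h5, ← h7, ← map_mul, mul_self_of_two hv, map_one]))) (right_inverts (mul_self_of_two h2) (mul_self_of_two hv))
  rw [mul_assoc, mul_self_of_two hv, mul_one] at h8
  exact h.fus h2 (h.mem_Q h8 h1) hg

theorem TE.se (h : TE Q N) : Cfsg.IsStronglyEmbedded (N.subgroupOf (normalClosure (Q : Set G))) := by
  obtain ⟨z, h1, h2⟩ := h.ev
  exact stronglyEmbedded_iff.mpr ⟨fun e => h.za.ZL_not_le (1 : G) (ZL_TZ_le.trans ((subgroupOf_eq_top.mp e).trans (stab_one N).ge)),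
    even_card_of_two_mem (t := ⟨z, subset_normalClosure h1⟩) (by simpa using h2) (h.le h1),
    fun t g ht h3 h4 => h.sek t.2 (by simpa using ht) h3 h4⟩

end Cfsg.Lib.ZD
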